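import Cfsg.Agent.CosetCert.Basic

/-!
The final table of a coset certificate, checked in pieces.
-/

set_option autoImplicit false

namespace Cfsg.Lib.CosetCert

/-- One row of the final table. -/
def Cert.rowOK (C : Cert) (n k : ℕ) : Bool :=
  (List.range C.ng).all fun x =>
    let r := C.tref k x
    let j := C.ttgt k x
    decide (r / 2 < n) && (C.el (r / 2) == x) && decide (j < C.m) &&
      if r % 2 = 0 then (C.eu (r / 2) == C.fn k) && (C.ev (r / 2) == C.fn j)
      else (C.ev (r / 2) == C.fn k) && (C.eu (r / 2) == C.fn j)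

/-- The rows `a, …, a + b - 1` of the final table. -/
def Cert.tabPart (C : Cert) (n a b : ℕ) : Bool :=
  (List.range b).all fun t => C.rowOK n (a + t)

theorem Cert.tabPart_add {C : Cert} {n a b c : ℕ} (h : C.tabPart n a b = true)
    (h' : C.tabPart n (a + b) c = true) : C.tabPart n a (b + c) = true := by
  rw [Cert.tabPart, List.all_eq_true] at *
  intro t ht
  rw [List.mem_range] at ht
  by_cases hb : t < b
  · exact h t (List.mem_range.2 hb)
  · have := h' (t - b) (List.mem_range.2 (by omega))
    rwa [show a + b + (t - b) = a + t by omega] at this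

theorem Cert.tabOK_of_part {C : Cert} {n : ℕ} (h0 : (decide (0 < C.m) && (C.fn 0 == 0)) = true)
    (h : C.tabPart n 0 C.m = true) : C.tabOK n = true := by
  rw [Cert.tabPart, List.all_eq_true] at h
  rw [Cert.tabOK, Bool.and_eq_true]
  refine ⟨h0, ?_⟩
  rw [List.all_eq_true]
  intro k hk
  have := h k hk
  rw [Nat.zero_add, Cert.rowOK] at this
  exact this

end Cfsg.Lib.CosetCert
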