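import Cfsg.Agent.CosetCert.Kit

/-!
Sifting prescribed images of base points through a chain whose size is the order of the group.
-/

set_option autoImplicit false

namespace Cfsg.Lib.CosetCert

open Cfsg.Lib.PermCert

/-- The word of a list of generator indices. -/
def genWordL (gens : List (List ℕ)) (is : List ℕ) : List ℕ := is.flatMap fun i => gens.getD i []

/-- A level together with index lists reaching every point of its orbit. -/
structure SLev where
  lev : Lev
  idx : List (ℕ × List ℕ)

/-- The index lists reach the points of the tree, in order. -/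
def SLev.ok (tabs : List PP) (S : SLev) : Bool :=
  ((S.idx.map Prod.fst) == (S.lev.b :: S.lev.orb.map Prod.fst)) &&
    S.idx.all fun e => (e.2.all fun i => decide (i < S.lev.gens.length)) &&
      (evalW tabs (genWordL S.lev.gens e.2) S.lev.b == e.1)

/-- Find a word taking the base points to the given images. -/
def sift (tabs : List PP) : List SLev → List ℕ → Option (List ℕ)
  | [], _ => some []
  | _ :: _, [] => none
  | S :: r, t :: ts =>
    match S.idx.find? fun e => e.1 == t with
    | none => none
    | some e =>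
      match sift tabs r (ts.map (evalW tabs (genWordL S.lev.gens e.2).reverse)) with
      | none => none
      | some w => some (w ++ genWordL S.lev.gens e.2)

section
variable {G : Type*} [Group G] {n : ℕ} {im : ℕ → G} {ψ : G →* Equiv.Perm (Fin n)} {tabs : List PP}

theorem wval_append' (v w : List ℕ) : wval im (v ++ w) = wval im v * wval im w := by
  simp [wval, List.map_append, List.prod_append]

theorem genWordL_mem {gens : List (List ℕ)} {L : Subgroup G} (h : ∀ w ∈ gens, wval im w ∈ L) :
    ∀ {is : List ℕ}, (∀ i ∈ is, i < gens.length) → wval im (genWordL gens is) ∈ L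
  | [], _ => by
    show wval im [] ∈ L
    simp [wval]
  | i :: is, hl => by
    rw [genWordL, List.flatMap_cons, wval_append', List.getD_eq_getElem _ _ (hl i List.mem_cons_self)]
    exact L.mul_mem (h _ (List.getElem_mem _)) (genWordL_mem h fun a ha => hl a (List.mem_cons_of_mem i ha))

theorem genWordL_lt {gens : List (List ℕ)} {is : List ℕ} (h : ∀ w ∈ gens, ∀ l ∈ w, l < tabs.length) :
    ∀ l ∈ genWordL gens is, l < tabs.length := by
  intro l hl
  obtain ⟨i, -, hi⟩ := List.mem_flatMap.1 hl
  by_cases h' : i < gens.length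
  · rw [List.getD_eq_getElem _ _ h'] at hi
    exact h _ (List.getElem_mem h') l hi
  · rw [List.getD_eq_default _ _ (not_lt.1 h')] at hi
    simp at hi

theorem scan_nodup {gens : List (List ℕ)} : ∀ (t : List (ℕ × ℕ × ℕ)) (seen : ℕ),
    scanOrb tabs n gens seen t = true → (t.map Prod.fst).Nodup ∧ ∀ q ∈ t.map Prod.fst, seen.testBit q = false
  | [], _, _ => ⟨List.nodup_nil, fun q hq => by simp at hq⟩
  | (q, par, g) :: r, seen, h => by
    simp only [scanOrb, Bool.and_eq_true, Bool.not_eq_true'] at h
    obtain ⟨⟨⟨⟨⟨-, hnew⟩, -⟩, -⟩, -⟩, hrest⟩ := h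
    obtain ⟨h1, h2⟩ := scan_nodup r _ hrest
    refine ⟨List.nodup_cons.2 ⟨fun hq => ?_, h1⟩, ?_⟩
    · have := h2 q hq
      rw [Nat.testBit_or, Nat.one_shiftLeft, Nat.testBit_two_pow] at this
      simp at this
    · intro a ha
      rw [List.map_cons, List.mem_cons] at ha
      rcases ha with rfl | ha
      · exact hnew
      · have := h2 a ha
        rw [Nat.testBit_or, Bool.or_eq_false_iff] at this
        exact this.1

/-- Every element of a group of the size of the chain is found from the images of the base points. -/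
theorem sift_complete (T : Tabled im ψ tabs) : ∀ (c : List SLev) (L : Subgroup G), Finite L →
    chainOK tabs n tabs.length (c.map SLev.lev) = true → c.all (SLev.ok tabs) = true →
    (∀ S ∈ c, ∀ w ∈ S.lev.gens, wval im w ∈ L) → Nat.card L ≤ chainSize (c.map SLev.lev) →
    ∀ x ∈ L, ∀ ts : List ℕ, List.Forall₂ (fun S t => ∀ p : Fin n, p.val = S.lev.b → ((ψ x)⁻¹ p).val = t) c ts →
      ∃ w, sift tabs c ts = some w ∧ wval im w = x
  | [], L, hfin, _, _, _, hcard, x, hx, ts, hts => by
    cases hts
    refine ⟨[], rfl, ?_⟩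
    haveI := hfin
    haveI : Subsingleton L := (Nat.card_eq_one_iff_unique.1 (le_antisymm
      (by simpa [chainSize] using hcard) Nat.card_pos)).1
    have := congrArg Subtype.val (Subsingleton.elim (⟨x, hx⟩ : L) 1)
    exact (show wval im [] = 1 by simp [wval]).trans this.symm
  | S :: r, L, hfin, hc, hok, hmem, hcard, x, hx, ts, hts => by
    classical
    haveI := hfin
    cases hts with
    | @cons _ t _ ts' ht hts' =>
    simp only [List.map_cons, chainOK, Bool.and_eq_true] at hc
    obtain ⟨⟨⟨hlev, hlet⟩, hfix⟩, hr⟩ := hc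
    simp only [Lev.ok, Bool.and_eq_true, decide_eq_true_eq] at hlev
    obtain ⟨hb, horb⟩ := hlev
    simp only [Lev.letters, List.all_eq_true, decide_eq_true_eq] at hlet
    simp only [List.all_cons, Bool.and_eq_true] at hok
    obtain ⟨hS, hok'⟩ := hok
    simp only [SLev.ok, Bool.and_eq_true, beq_iff_eq, List.all_eq_true, decide_eq_true_eq] at hS
    obtain ⟨hpts, hidx⟩ := hS
    let act : MulAction L (Fin n) := MulAction.compHom (Fin n) (ψ.comp L.subtype)
    letI := act
    set p : Fin n := ⟨S.lev.b, hb⟩
    let K : Subgroup G := (MulAction.stabilizer L p).map L.subtype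
    have hKfin : Finite K := Finite.of_equiv _
      ((MulAction.stabilizer L p).equivMapOfInjective L.subtype L.subtype_injective).toEquiv
    have hKgens : ∀ M ∈ r, ∀ w ∈ M.lev.gens, wval im w ∈ K := by
      intro M hM w hw
      refine ⟨⟨_, hmem M (List.mem_cons_of_mem S hM) w hw⟩, ?_, rfl⟩
      have hfw := List.all_eq_true.1 hfix M.lev (List.mem_map_of_mem hM)
      simp only [Lev.fixes, List.all_eq_true, beq_iff_eq] at hfw
      rw [SetLike.mem_coe, MulAction.mem_stabilizer_iff]
      show ψ (wval im w) p = p
      have hcl := chain_bound.chain_letters.{0} tabs (r.map SLev.lev) hr M.lev (List.mem_map_of_mem hM)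
      have e := evalW_apply im ψ tabs T.act w (hcl w hw) p
      rw [show evalW tabs w (p : ℕ) = S.lev.b from hfw w hw] at e
      have e' : (ψ (wval im w))⁻¹ p = p := Fin.ext e
      conv_lhs => rw [← e']
      simp
    have hlow : chainSize (r.map SLev.lev) ≤ Nat.card K :=
      chain_bound im ψ tabs T.act _ K hr hKfin (fun M hM w hw => by
        obtain ⟨M', hM', rfl⟩ := List.mem_map.1 hM
        exact hKgens M' hM' w hw)
    have hKcard : Nat.card K = Nat.card (MulAction.stabilizer L p) :=
      Nat.card_congr ((MulAction.stabilizer L p).equivMapOfInjective L.subtype L.subtype_injective).symm.toEquiv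
    have hreach : ∀ e ∈ S.idx, ∃ g : L, (g : G) = wval im (genWordL S.lev.gens e.2) ∧
        ((ψ (wval im (genWordL S.lev.gens e.2)))⁻¹ p).val = e.1 := fun e he => by
      have h := hidx e he
      refine ⟨⟨_, genWordL_mem (fun w hw => hmem S List.mem_cons_self w hw) h.1⟩, rfl, ?_⟩
      rw [evalW_apply im ψ tabs T.act _ (genWordL_lt hlet) p]
      exact h.2
    set pts : Finset (Fin n) := Finset.univ.filter fun q => q.val ∈ S.idx.map Prod.fst with hpts'
    have hsub : (pts : Set (Fin n)) ⊆ MulAction.orbit L p := by
      intro q hq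
      rw [Finset.mem_coe, hpts', Finset.mem_filter] at hq
      obtain ⟨e, he, heq⟩ := List.mem_map.1 hq.2
      obtain ⟨g, hg, hgq⟩ := hreach e he
      refine ⟨g⁻¹, Fin.ext ?_⟩
      show ((ψ (g⁻¹ : L).1) p).val = q.val
      rw [Subgroup.coe_inv, map_inv, hg, hgq, heq]
    have hcount : S.lev.orb.length + 1 ≤ pts.card := by
      have hnd : (S.idx.map Prod.fst).Nodup := by
        rw [hpts]
        obtain ⟨h1, h2⟩ := scan_nodup S.lev.orb _ horb
        refine List.nodup_cons.2 ⟨fun hm => ?_, h1⟩
        have := h2 _ hm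
        simp [Nat.one_shiftLeft, Nat.testBit_two_pow] at this
      have hlt : ∀ a ∈ S.idx.map Prod.fst, a < n := fun a ha => by
        obtain ⟨e, he, rfl⟩ := List.mem_map.1 ha
        obtain ⟨g, -, hgq⟩ := hreach e he
        rw [← hgq]
        exact Fin.isLt _
      have : pts.map Fin.valEmbedding = (S.idx.map Prod.fst).toFinset := by
        ext a
        simp only [Finset.mem_map, Fin.valEmbedding_apply, hpts', Finset.mem_filter, Finset.mem_univ, true_and,
          List.mem_toFinset]
        exact ⟨fun ⟨q, hq, e⟩ => e ▸ hq, fun ha => ⟨⟨a, hlt a ha⟩, ha, rfl⟩⟩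
      rw [← Finset.card_map Fin.valEmbedding, this, List.toFinset_card_of_nodup hnd, hpts]
      simp
    have horbcard : pts.card ≤ (MulAction.orbit L p).ncard := by
      rw [← Set.ncard_coe_finset]
      exact Set.ncard_le_ncard hsub (Set.toFinite _)
    have htot := Nat.card_congr (MulAction.orbitProdStabilizerEquivGroup L p)
    rw [Nat.card_prod, Nat.card_coe_set_eq, ← hKcard] at htot
    simp only [List.map_cons, chainSize] at hcard
    have hKpos : 0 < Nat.card K := Nat.card_pos
    have hsize : Nat.card K ≤ chainSize (r.map SLev.lev) := by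
      by_contra h
      have h1 : (S.lev.orb.length + 1) * chainSize (r.map SLev.lev) < (S.lev.orb.length + 1) * Nat.card K :=
        Nat.mul_lt_mul_of_pos_left (not_le.1 h) (Nat.succ_pos _)
      have h2 : (S.lev.orb.length + 1) * Nat.card K ≤ (MulAction.orbit L p).ncard * Nat.card K :=
        Nat.mul_le_mul_right _ (hcount.trans horbcard)
      omega
    have horbit : (pts : Set (Fin n)) = MulAction.orbit L p := by
      refine Set.eq_of_subset_of_ncard_le hsub ?_ (Set.toFinite _)
      rw [Set.ncard_coe_finset]
      refine le_trans ?_ hcount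
      refine Nat.le_of_mul_le_mul_right ?_ hKpos
      rw [htot]
      exact hcard.trans (Nat.mul_le_mul_left _ hlow)
    have htmem : (ψ x)⁻¹ p ∈ pts := by
      rw [← Finset.mem_coe, horbit]
      refine ⟨(⟨x, hx⟩ : L)⁻¹, ?_⟩
      show ψ (((⟨x, hx⟩ : L)⁻¹ : L) : G) p = _
      rw [Subgroup.coe_inv, map_inv]
    have ht0 : ((ψ x)⁻¹ p).val = t := ht p rfl
    have hfind : ∃ e, (S.idx.find? fun e => e.1 == t) = some e := by
      rw [hpts', Finset.mem_filter] at htmem
      obtain ⟨e, he, heq⟩ := List.mem_map.1 htmem.2
      exact Option.isSome_iff_exists.1 (List.find?_isSome.2 ⟨e, he, by rw [heq, ht0, beq_self_eq_true]⟩)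
    obtain ⟨e, he⟩ := hfind
    have hem := List.mem_of_find?_eq_some he
    have het : e.1 = t := by simpa using List.find?_some he
    obtain ⟨g, hg, hgq⟩ := hreach e hem
    set u := genWordL S.lev.gens e.2
    have hult : ∀ l ∈ u, l < tabs.length := genWordL_lt hlet
    have hx' : x * (wval im u)⁻¹ ∈ K := by
      refine ⟨⟨x, hx⟩ * g⁻¹, ?_, ?_⟩
      · rw [SetLike.mem_coe, MulAction.mem_stabilizer_iff]
        show ψ (x * (g⁻¹ : L).1) p = p
        rw [Subgroup.coe_inv, hg, map_mul, Equiv.Perm.mul_apply, map_inv]
        have : (ψ (wval im u))⁻¹ p = (ψ x)⁻¹ p := Fin.ext (by rw [hgq, het, ht0])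
        rw [this]
        simp
      · show x * (g⁻¹ : L).1 = _
        rw [Subgroup.coe_inv, hg]
    have hrev : ∀ q : Fin n, evalW tabs u.reverse q.val = (ψ (wval im u) q).val := fun q => by
      rw [← evalW_apply im ψ tabs T.act u.reverse (fun l hl => hult l (List.mem_reverse.1 hl)) q,
        wval_reverse im fun l hl => T.sq l (hult l hl), map_inv, inv_inv]
    obtain ⟨w, hw, hwv⟩ := sift_complete T r K hKfin hr hok' hKgens hsize _ hx'
      (ts'.map (evalW tabs u.reverse)) (List.forall₂_map_right_iff.2 (hts'.imp fun M a hMa q hq => by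
        have := hMa q hq
        rw [map_mul, mul_inv_rev, Equiv.Perm.mul_apply, map_inv, inv_inv, ← this, hrev]))
    refine ⟨w ++ u, ?_, ?_⟩
    · simp only [sift, he]
      rw [hw]
    · rw [wval_append', hwv, inv_mul_cancel_right]

end

end Cfsg.Lib.CosetCert
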