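import Cfsg.Agent.CosetCert.Lower

/-!
General tools for groups given by involutory letters with tables on the points: bounds from certificates, faithful
subgroups, suborbits and transitivity.
-/

set_option autoImplicit false

namespace Cfsg.Lib.CosetCert

open Cfsg.Lib.PermCert

/-- The letter picked from a list. -/
def pickL (Λ : List ℕ) (k : ℕ) : ℕ := Λ.getD k 0

/-- The subgroup on some of the letters. -/
def lgp {G : Type*} [Group G] (im : ℕ → G) (S : List ℕ) : Subgroup G := Subgroup.closure {x | ∃ l ∈ S, im l = x}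

section
variable {G : Type*} [Group G] (im : ℕ → G)

theorem lgp_mem {S : List ℕ} {l : ℕ} (h : l ∈ S) : im l ∈ lgp im S := Subgroup.subset_closure ⟨l, h, rfl⟩

theorem lgp_mono {S T : List ℕ} (h : ∀ l ∈ S, l ∈ T) : lgp im S ≤ lgp im T :=
  Subgroup.closure_mono fun _ ⟨l, hl, e⟩ => ⟨l, h l hl, e⟩

/-- All letters of a word are in a list. -/
def inLetters (S w : List ℕ) : Bool := w.all fun l => S.contains l

theorem lgp_wval {S : List ℕ} : ∀ {w : List ℕ}, inLetters S w = true → wval im w ∈ lgp im S
  | [], _ => (lgp im S).one_mem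
  | l :: w, h => by
    rw [inLetters, List.all_cons, Bool.and_eq_true, List.contains_iff_mem] at h
    have e : wval im (l :: w) = im l * wval im w := by simp [wval]
    rw [e]
    exact mul_mem (lgp_mem im h.1) (lgp_wval h.2)

theorem map_wval {H : Type*} [Group H] (f : G →* H) (w : List ℕ) : f (wval im w) = wval (fun k => f (im k)) w := by
  rw [wval, map_list_prod, List.map_map]
  rfl

/-- A certificate bounds the subgroup on the chosen letters. -/
theorem lgp_bound {C : Cert} {R : List (List ℕ)} (hC : C.Valid R) (Λ : List ℕ) (hng : C.ng = Λ.length)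
    (hR : ∀ r ∈ R, wval im (r.map (pickL Λ)) = 1)
    (hlet : (R.all fun r => r.all fun l => decide (l < Λ.length)) = true)
    (hsq : ∀ l ∈ Λ, im l * im l = 1) {K : Subgroup G} [Finite K] (hsub : ∀ s ∈ C.subs, im (pickL Λ s) ∈ K) :
    Finite (lgp im Λ) ∧ Nat.card (lgp im Λ) ≤ C.fin.length * Nat.card K := by
  have hinv : ∀ l, l < Λ.length → im (pickL Λ l) * im (pickL Λ l) = 1 := fun l hl => hsq _ (by
    rw [pickL, List.getD_eq_getElem _ _ hl]
    exact List.getElem_mem hl)
  refine card_le C (fun k => im (pickL Λ k)) hC (fun l hl => hinv l (hng ▸ hl))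
    (fun r hr => by
      have := hR r hr
      rwa [wval, List.map_map] at this)
    (fun r hr l hl => hinv l (decide_eq_true_eq.mp (List.all_eq_true.1 (List.all_eq_true.1 hlet r hr) l hl))) hsub ?_
  refine (Subgroup.closure_le _).2 ?_
  rintro _ ⟨l, hl, rfl⟩
  obtain ⟨k, hk, rfl⟩ := List.getElem_of_mem hl
  exact Subgroup.subset_closure ⟨k, hng ▸ hk, by show im (pickL Λ k) = _; rw [pickL, List.getD_eq_getElem _ _ hk]⟩

end

section
variable {G : Type*} [Group G] {n : ℕ} {im : ℕ → G} {ψ : G →* Equiv.Perm (Fin n)} {tabs : List PP}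

/-- The letters act by their tables and are involutions. -/
structure Tabled (im : ℕ → G) (ψ : G →* Equiv.Perm (Fin n)) (tabs : List PP) : Prop where
  act : ∀ l < tabs.length, valid n (tabs.getD l (0, 0)) = true ∧ ψ (im l) = perm n (tabs.getD l (0, 0))
  sq : ∀ l < tabs.length, im l * im l = 1

/-- A chain as long as an upper bound makes the action faithful on the subgroup. -/
theorem Tabled.faithful (T : Tabled im ψ tabs) {S : Subgroup G} {N : ℕ} (hS : Finite S ∧ Nat.card S ≤ N)
    {c : List Lev} (hc : chainOK tabs n tabs.length c = true) (hsz : chainSize c = N)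
    (hg : ∀ K ∈ c, ∀ w ∈ K.gens, wval im w ∈ S) : Nat.card S = N ∧ ∀ x ∈ S, ψ x = 1 → x = 1 := by
  haveI := hS.1
  let f : S →* S.map ψ := ψ.subgroupMap S
  have hf : Function.Surjective f := ψ.subgroupMap_surjective S
  haveI : Finite (S.map ψ) := Finite.of_surjective f hf
  have h1 : N ≤ Nat.card (S.map ψ) := hsz ▸ chain_bound (fun k => ψ (im k)) (MonoidHom.id _) tabs T.act c
    (S.map ψ) hc inferInstance (fun K hK w hw => ⟨_, hg K hK w hw, map_wval im ψ w⟩)
  have h2 := Nat.card_le_card_of_surjective f hf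
  have hb : Function.Bijective f :=
    (Nat.bijective_iff_surjective_and_card f).2 ⟨hf, by have := hS.2; omega⟩
  refine ⟨by have := hS.2; omega, fun x hx h => ?_⟩
  have := hb.1 (a₁ := ⟨x, hx⟩) (a₂ := 1) (Subtype.ext (by
    show ψ x = ((f 1 : S.map ψ) : Equiv.Perm (Fin n))
    rw [h, map_one]
    rfl))
  exact congrArg Subtype.val this

/-- A table word that acts trivially. -/
def trivWord (n : ℕ) (tabs : List PP) (w : List ℕ) : Bool :=
  w.all (fun l => decide (l < tabs.length)) && isId n (w.map fun l => tabs.getD l (0, 0))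

theorem Tabled.trivWord_sound (T : Tabled im ψ tabs) {w : List ℕ} (h : trivWord n tabs w = true) :
    ψ (wval im w) = 1 := by
  simp only [trivWord, Bool.and_eq_true, List.all_eq_true, decide_eq_true_eq] at h
  have hid := isId_sound (w := w.map fun l => tabs.getD l (0, 0)) (fun g hg => by
    obtain ⟨l, hl, rfl⟩ := List.mem_map.1 hg
    exact (T.act l (h.1 l hl)).1) h.2
  rw [wperm, List.map_map] at hid
  rw [map_wval, wval]
  refine Eq.trans ?_ hid
  exact congrArg List.prod (List.map_congr_left fun l hl => (T.act l (h.1 l hl)).2)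

variable [MulAction G (Fin n)]

theorem Tabled.im_smul (T : Tabled im ψ tabs) (hsmul : ∀ (g : G) (x : Fin n), g • x = ψ g x) {l : ℕ}
    (hl : l < tabs.length) (x : Fin n) : ((im l • x : Fin n) : ℕ) = evalW tabs [l] x := by
  have h := evalW_apply im ψ tabs T.act [l] (fun a ha => by
    rw [List.mem_singleton] at ha
    exact ha ▸ hl) x
  have e : wval im [l] = im l := by simp [wval]
  rw [e] at h
  rw [← h, hsmul, ← map_inv, inv_eq_of_mul_eq_one_left (T.sq l hl)]

/-- The points of an orbit tree, as a bit mask. -/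
def treeMask : List (ℕ × ℕ × ℕ) → ℕ → ℕ
  | [], s => s
  | (q, _, _) :: r, s => treeMask r (s ||| 1 <<< q)

/-- The points of a mask. -/
def maskPts (n m : ℕ) : Set (Fin n) := {x | m.testBit x.val = true}

theorem mem_maskPts {m : ℕ} {x : Fin n} : x ∈ maskPts n m ↔ m.testBit x.val = true := Iff.rfl

/-- The number of points of a mask. -/
def maskCount (n m : ℕ) : ℕ := ((List.range n).filter fun j => m.testBit j).length

theorem ncard_maskPts (m : ℕ) : (maskPts n m).ncard = maskCount n m := by
  classical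
  rw [maskCount, Set.ncard_eq_toFinset_card', ← List.toFinset_card_of_nodup (List.nodup_range.filter _)]
  refine Finset.card_bij (fun x _ => x.val) ?_ ?_ ?_
  · intro x hx
    rw [Set.mem_toFinset] at hx
    rw [List.mem_toFinset, List.mem_filter, List.mem_range]
    exact ⟨x.isLt, hx⟩
  · exact fun x _ y _ e => Fin.ext e
  · intro j hj
    rw [List.mem_toFinset, List.mem_filter, List.mem_range] at hj
    exact ⟨⟨j, hj.1⟩, by rw [Set.mem_toFinset]; exact hj.2, rfl⟩

theorem treeMask_self : ∀ (t : List (ℕ × ℕ × ℕ)) (s j : ℕ), s.testBit j = true → (treeMask t s).testBit j = true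
  | [], _, _, h => h
  | (q, _, _) :: r, s, j, h => treeMask_self r _ j (by rw [Nat.testBit_or, h, Bool.true_or])

theorem Tabled.reach (T : Tabled im ψ tabs) (hsmul : ∀ (g : G) (x : Fin n), g • x = ψ g x) {H : Subgroup G}
    {gens : List (List ℕ)} (hlt : ∀ w ∈ gens, ∀ l ∈ w, l < tabs.length) (hgens : ∀ w ∈ gens, wval im w ∈ H)
    {p : Fin n} : ∀ (t : List (ℕ × ℕ × ℕ)) (s : ℕ), scanOrb tabs n gens s t = true →
      (∀ j, s.testBit j = true → ∃ h ∈ H, ((h • p : Fin n) : ℕ) = j) →
      ∀ j, (treeMask t s).testBit j = true → ∃ h ∈ H, ((h • p : Fin n) : ℕ) = j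
  | [], _, _, hs, j, hj => hs j hj
  | (q, par, g) :: r, s, hsc, hs, j, hj => by
    simp only [scanOrb, Bool.and_eq_true, decide_eq_true_eq, beq_iff_eq] at hsc
    obtain ⟨⟨⟨⟨⟨-, -⟩, hpar⟩, hg⟩, hev⟩, hrest⟩ := hsc
    refine T.reach hsmul hlt hgens r _ hrest (fun i hi => ?_) j hj
    rw [Nat.testBit_or, Bool.or_eq_true, Nat.one_shiftLeft, Nat.testBit_two_pow, decide_eq_true_eq] at hi
    rcases hi with hi | rfl
    · exact hs i hi
    · obtain ⟨h, hh, e⟩ := hs par hpar
      rw [List.getD_eq_getElem _ _ hg] at hev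
      have hw := List.getElem_mem hg
      have := evalW_apply im ψ tabs T.act _ (hlt _ hw) (h • p)
      rw [e, hev] at this
      refine ⟨(wval im gens[g])⁻¹ * h, mul_mem (H.inv_mem (hgens _ hw)) hh, ?_⟩
      rw [mul_smul, hsmul, map_inv, this]

/-- A spanning tree of an orbit: reached, of known size, and closed under the letters. -/
def treeOK (n : ℕ) (tabs : List PP) (S : List ℕ) (b : ℕ) (t : List (ℕ × ℕ × ℕ)) (len : ℕ) : Bool :=
  decide (b < n) && scanOrb tabs n (S.map fun l => [l]) (1 <<< b) t &&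
    (maskCount n (treeMask t (1 <<< b)) == len) && S.all (fun l => decide (l < tabs.length)) &&
    (List.range n).all fun x => !(treeMask t (1 <<< b)).testBit x ||
      S.all fun l => (treeMask t (1 <<< b)).testBit (evalW tabs [l] x)

theorem Tabled.tree_orbit (T : Tabled im ψ tabs) (hsmul : ∀ (g : G) (x : Fin n), g • x = ψ g x) {S : List ℕ}
    {b : ℕ} {t : List (ℕ × ℕ × ℕ)} {len : ℕ} (h : treeOK n tabs S b t len = true) :
    (∀ x ∈ maskPts n (treeMask t (1 <<< b)),
      MulAction.orbit (lgp im S) x = maskPts n (treeMask t (1 <<< b))) ∧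
      (maskPts n (treeMask t (1 <<< b))).ncard = len ∧
      ∃ x : Fin n, x.val = b ∧ x ∈ maskPts n (treeMask t (1 <<< b)) := by
  simp only [treeOK, Bool.and_eq_true, decide_eq_true_eq, beq_iff_eq] at h
  obtain ⟨⟨⟨⟨hb, hscan⟩, hlen⟩, hlt⟩, hclosed⟩ := h
  simp only [List.all_eq_true, List.mem_range, Bool.or_eq_true, Bool.not_eq_true', decide_eq_true_eq] at hclosed hlt
  set m := treeMask t (1 <<< b)
  have hbm : (⟨b, hb⟩ : Fin n) ∈ maskPts n m := treeMask_self t _ b (by simp [Nat.one_shiftLeft])
  have hstep : ∀ g ∈ lgp im S, ∀ x : Fin n, x ∈ maskPts n m ↔ g • x ∈ maskPts n m := by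
    intro g hg
    induction hg using Subgroup.closure_induction with
    | mem _ hy =>
      obtain ⟨l, hl, rfl⟩ := hy
      have hone : ∀ x ∈ maskPts n m, im l • x ∈ maskPts n m := fun x hx => by
        rw [mem_maskPts] at hx ⊢
        rw [T.im_smul hsmul (hlt l hl)]
        rcases hclosed x.val x.isLt with e | e
        · rw [hx] at e; exact Bool.noConfusion e
        · exact e l hl
      intro x
      refine ⟨hone x, fun hx => ?_⟩
      have h2 := hone _ hx
      rwa [← mul_smul, T.sq l (hlt l hl), one_smul] at h2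
    | one => intro x; rw [one_smul]
    | mul a c _ _ ha hc => intro x; rw [mul_smul, ← ha, ← hc]
    | inv a _ ha => intro x; rw [ha (a⁻¹ • x), smul_inv_smul]
  have he : MulAction.orbit (lgp im S) (⟨b, hb⟩ : Fin n) = maskPts n m := by
    refine Set.Subset.antisymm ?_ ?_
    · rintro _ ⟨g, rfl⟩
      exact (hstep g g.2 _).1 hbm
    · intro x hx
      obtain ⟨g, hg, e⟩ := T.reach hsmul (H := lgp im S) (p := (⟨b, hb⟩ : Fin n))
        (gens := S.map fun l => [l]) (fun w hw l hl => by
          obtain ⟨k, hk, rfl⟩ := List.mem_map.1 hw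
          rw [List.mem_singleton] at hl
          exact hl ▸ hlt k hk) (fun w hw => by
          obtain ⟨k, hk, rfl⟩ := List.mem_map.1 hw
          simpa [wval] using lgp_mem im hk) t (1 <<< b) hscan
        (fun j hj => ⟨1, Subgroup.one_mem _, by
          rw [Nat.one_shiftLeft, Nat.testBit_two_pow, decide_eq_true_eq] at hj
          rw [one_smul]
          exact hj⟩) x.val hx
      exact ⟨⟨g, hg⟩, Fin.ext e⟩
  refine ⟨fun x hx => ?_, (ncard_maskPts m).trans hlen, ⟨b, hb⟩, rfl, hbm⟩
  rw [← he] at hx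
  rw [MulAction.orbit_eq_iff.2 hx, he]

/-- A spanning tree of all points makes the action transitive. -/
theorem Tabled.transitive (T : Tabled im ψ tabs) (hsmul : ∀ (g : G) (x : Fin n), g • x = ψ g x) {L : Lev}
    (hL : (L.ok tabs n && L.gens.all (fun w => w.all fun l => decide (l < tabs.length)) &&
      (List.range n).all fun j => (treeMask L.orb (1 <<< L.b)).testBit j) = true) :
    MulAction.IsPretransitive G (Fin n) := by
  simp only [Lev.ok, Bool.and_eq_true, decide_eq_true_eq] at hL
  obtain ⟨⟨⟨hb, hscan⟩, hlt⟩, hall⟩ := hL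
  simp only [List.all_eq_true, decide_eq_true_eq] at hlt
  have hzero : ∀ x : Fin n, ∃ g : G, g • (⟨L.b, hb⟩ : Fin n) = x := fun x => by
    obtain ⟨g, -, e⟩ := T.reach hsmul (H := (⊤ : Subgroup G)) hlt (fun w _ => Subgroup.mem_top (wval im w))
      (p := (⟨L.b, hb⟩ : Fin n)) L.orb _ hscan (fun j hj => ⟨1, Subgroup.one_mem _, by
        rw [Nat.one_shiftLeft, Nat.testBit_two_pow, decide_eq_true_eq] at hj
        rw [one_smul]
        exact hj⟩) x.val (List.all_eq_true.1 hall x.val (List.mem_range.2 x.isLt))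
    exact ⟨g, Fin.ext e⟩
  refine ⟨fun x y => ?_⟩
  obtain ⟨g, rfl⟩ := hzero x
  obtain ⟨h, rfl⟩ := hzero y
  exact ⟨h * g⁻¹, by rw [mul_smul, inv_smul_smul]⟩

end

section
variable {G : Type*} [Group G] {α : Type*} [MulAction G α]

/-- The points are the cosets of a stabiliser. -/
theorem exists_coset_equiv [MulAction.IsPretransitive G α] {H : Subgroup G} {p : α}
    (hH : MulAction.stabilizer G p = H) : ∃ e : G ⧸ H ≃ α, ∀ (g : G) q, e (g • q) = g • e q := by
  subst hH
  have hs : Function.Surjective (MulAction.ofQuotientStabilizer G p) := fun x => by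
    obtain ⟨g, hg⟩ := MulAction.exists_smul_eq G p x
    exact ⟨g, hg⟩
  exact ⟨Equiv.ofBijective _ ⟨MulAction.injective_ofQuotientStabilizer G p, hs⟩,
    fun g q => MulAction.ofQuotientStabilizer_smul G p g q⟩

theorem ncard_orbit_equiv {H K : Subgroup G} (e : G ⧸ H ≃ α) (he : ∀ (g : G) q, e (g • q) = g • e q) (p : α) :
    MulAction.orbit K (e.symm p) = e ⁻¹' MulAction.orbit K p ∧
      (MulAction.orbit K (e.symm p)).ncard = (MulAction.orbit K p).ncard := by
  have h1 : MulAction.orbit K (e.symm p) = e ⁻¹' MulAction.orbit K p := by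
    ext q
    simp only [Set.mem_preimage, MulAction.mem_orbit_iff]
    refine exists_congr fun g => ?_
    rw [← e.injective.eq_iff]
    show e ((g : G) • e.symm p) = e q ↔ (g : G) • p = e q
    rw [he, e.apply_symm_apply]
  exact ⟨h1, by rw [h1, Set.ncard_preimage_of_injective_subset_range e.injective (by simp [e.range_eq_univ])]⟩

end

end Cfsg.Lib.CosetCert
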