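import Cfsg.Agent.CosetCert.Kit
import Cfsg.Agent.CosetCert.Sift

/-!
A chain as long as an upper bound confines the orbits of base points to the points of its trees.
-/

set_option autoImplicit false

namespace Cfsg.Lib.CosetCert

open Cfsg.Lib.PermCert

/-- Stabiliser of a point inside a subgroup. -/
abbrev stabIn {n : ℕ} (L : Subgroup (Equiv.Perm (Fin n))) (p : Fin n) : Subgroup (Equiv.Perm (Fin n)) :=
  L ⊓ MulAction.stabilizer (Equiv.Perm (Fin n)) p

theorem card_orbit_mul {n : ℕ} (L : Subgroup (Equiv.Perm (Fin n))) (p : Fin n) :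
    (MulAction.orbit L p).ncard * Nat.card (stabIn L p) = Nat.card L := by
  have e := Nat.card_congr (MulAction.orbitProdStabilizerEquivGroup L p)
  rw [Nat.card_prod, Nat.card_coe_set_eq] at e
  rw [← e]
  refine congrArg ((MulAction.orbit L p).ncard * ·) ?_
  rw [← Subgroup.card_map_of_injective (f := L.subtype) L.subtype_injective]
  refine Nat.card_congr (Equiv.subtypeEquivRight fun z => ?_)
  simp only [Subgroup.mem_map, Subgroup.mem_inf, MulAction.mem_stabilizer_iff]
  exact ⟨fun hz => ⟨⟨z, hz.1⟩, hz.2, rfl⟩, fun ⟨x, hx, e⟩ => e ▸ ⟨x.2, hx⟩⟩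

/-- The points of a tree are distinct points of the orbit. -/
theorem scan_orbit {n : ℕ} (im : ℕ → Equiv.Perm (Fin n)) (tabs : List PP)
    (hT : ∀ l < tabs.length, valid n (tabs.getD l (0, 0)) = true ∧
      MonoidHom.id (Equiv.Perm (Fin n)) (im l) = perm n (tabs.getD l (0, 0)))
    (gens : List (List ℕ)) (L : Subgroup (Equiv.Perm (Fin n))) (hlet : ∀ w ∈ gens, ∀ l ∈ w, l < tabs.length)
    (hmem : ∀ w ∈ gens, wval im w ∈ L) (p : Fin n) :
    ∀ (es : List (ℕ × ℕ × ℕ)) (seen : ℕ) (S : Finset ℕ), (∀ j, seen.testBit j = true ↔ j ∈ S) →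
      (∀ j ∈ S, ∃ h : j < n, (⟨j, h⟩ : Fin n) ∈ MulAction.orbit L p) → scanOrb tabs n gens seen es = true →
      ∃ T : Finset ℕ, T.card = S.card + es.length ∧ (∀ j, j ∈ T ↔ j ∈ S ∨ j ∈ es.map Prod.fst) ∧
        ∀ j ∈ T, ∃ h : j < n, (⟨j, h⟩ : Fin n) ∈ MulAction.orbit L p
  | [], _, S, _, hS, _ => ⟨S, by simp, by simp, hS⟩
  | (q, par, g) :: r, seen, S, hseen, hS, hsc => by
    simp only [scanOrb, Bool.and_eq_true, decide_eq_true_eq, Bool.not_eq_true', beq_iff_eq] at hsc
    obtain ⟨⟨⟨⟨⟨hq, hnew⟩, hpar⟩, hg⟩, hev⟩, hrest⟩ := hsc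
    rw [List.getD_eq_getElem _ _ hg] at hev
    have hw : gens[g] ∈ gens := List.getElem_mem hg
    obtain ⟨hparlt, k, hk⟩ := hS par ((hseen par).1 hpar)
    have e := evalW_apply im (MonoidHom.id _) tabs hT _ (hlet _ hw) ⟨par, hparlt⟩
    rw [hev] at e
    have hqo : (⟨q, hq⟩ : Fin n) ∈ MulAction.orbit L p := by
      refine ⟨⟨_, L.inv_mem (hmem _ hw)⟩ * k, ?_⟩
      show ((wval im _)⁻¹ * (k : Equiv.Perm (Fin n))) p = _
      rw [Equiv.Perm.mul_apply, show (k : Equiv.Perm (Fin n)) p = _ from hk]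
      exact Fin.ext e
    have hqS : q ∉ S := fun h => by
      rw [(hseen q).2 h] at hnew
      exact Bool.noConfusion hnew
    obtain ⟨T, hT1, hT2, hT3⟩ := scan_orbit im tabs hT gens L hlet hmem p r (seen ||| 1 <<< q) (insert q S)
      (fun j => by
        rw [Nat.testBit_or, Nat.one_shiftLeft, Nat.testBit_two_pow, Bool.or_eq_true, decide_eq_true_eq, hseen,
          Finset.mem_insert]
        exact ⟨fun h => h.symm.imp (fun h => h.symm) id, fun h => h.symm.imp id fun h => h.symm⟩)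
      (fun j hj => by
        rcases Finset.mem_insert.1 hj with rfl | hj
        · exact ⟨hq, hqo⟩
        · exact hS j hj) hrest
    refine ⟨T, ?_, fun j => ?_, hT3⟩
    · rw [hT1, Finset.card_insert_of_notMem hqS, List.length_cons]
      omega
    · rw [hT2, Finset.mem_insert, List.map_cons, List.mem_cons]
      tauto

/-- A chain as long as the order gives the orbit of the base point and bounds its stabiliser. -/
theorem stab_keys {n : ℕ} (im : ℕ → Equiv.Perm (Fin n)) (tabs : List PP)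
    (hT : ∀ l < tabs.length, valid n (tabs.getD l (0, 0)) = true ∧
      MonoidHom.id (Equiv.Perm (Fin n)) (im l) = perm n (tabs.getD l (0, 0)))
    (M : Lev) (r : List Lev) (L : Subgroup (Equiv.Perm (Fin n)))
    (hc : chainOK tabs n tabs.length (M :: r) = true) (hmem : ∀ K ∈ M :: r, ∀ w ∈ K.gens, wval im w ∈ L)
    (hcard : Nat.card L ≤ chainSize (M :: r)) (p : Fin n) (hp : p.val = M.b) :
    (∀ x ∈ L, (x⁻¹ p).val ∈ M.b :: M.orb.map Prod.fst) ∧ chainOK tabs n tabs.length r = true ∧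
      (∀ K ∈ r, ∀ w ∈ K.gens, wval im w ∈ stabIn L p) ∧ Nat.card (stabIn L p) ≤ chainSize r := by
  have hlet := chain_bound.chain_letters.{0} tabs (M :: r) hc
  simp only [chainOK, Bool.and_eq_true] at hc
  obtain ⟨⟨⟨hok, -⟩, hfix⟩, hr⟩ := hc
  simp only [Lev.ok, Bool.and_eq_true, decide_eq_true_eq] at hok
  have hK : ∀ K ∈ r, ∀ w ∈ K.gens, wval im w ∈ stabIn L p := fun K hK w hw => by
    refine ⟨hmem K (List.mem_cons_of_mem M hK) w hw, ?_⟩
    have hfw := List.all_eq_true.1 hfix K hK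
    simp only [Lev.fixes, List.all_eq_true, beq_iff_eq] at hfw
    have e := evalW_apply im (MonoidHom.id _) tabs hT w (hlet K (List.mem_cons_of_mem M hK) w hw) p
    rw [show evalW tabs w (p : ℕ) = p.val by rw [hp]; exact hfw w hw] at e
    exact MulAction.mem_stabilizer_iff.2 ((Equiv.Perm.inv_eq_iff_eq.1 (Fin.ext e)).symm)
  have hlow : chainSize r ≤ Nat.card (stabIn L p) :=
    chain_bound im (MonoidHom.id _) tabs hT r _ hr inferInstance hK
  obtain ⟨T, hT1, hT2, hT3⟩ := scan_orbit im tabs hT M.gens L (hlet M List.mem_cons_self)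
    (hmem M List.mem_cons_self) p M.orb (1 <<< M.b) {M.b}
    (fun j => by rw [Nat.one_shiftLeft, Nat.testBit_two_pow, decide_eq_true_eq, Finset.mem_singleton]; exact eq_comm)
    (fun j hj => by
      obtain rfl := Finset.mem_singleton.1 hj
      exact ⟨hok.1, ⟨1, Fin.ext hp⟩⟩) hok.2
  have hsub : (T : Set ℕ) ⊆ Fin.val '' MulAction.orbit L p := fun j hj => by
    obtain ⟨h, ho⟩ := hT3 j hj
    exact ⟨_, ho, rfl⟩
  have hsize : (M.orb.length + 1) ≤ (MulAction.orbit L p).ncard := by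
    have h1 := Set.ncard_le_ncard hsub (Set.toFinite _)
    rw [Set.ncard_coe_finset, hT1, Finset.card_singleton, Set.InjOn.ncard_image Fin.val_injective.injOn] at h1
    omega
  have hmul := card_orbit_mul L p
  rw [chainSize] at hcard
  have hstab : Nat.card (stabIn L p) ≤ chainSize r := by
    refine Nat.le_of_mul_le_mul_left ?_ (Nat.succ_pos M.orb.length)
    calc (M.orb.length + 1) * Nat.card (stabIn L p) ≤ (MulAction.orbit L p).ncard * Nat.card (stabIn L p) :=
          Nat.mul_le_mul_right _ hsize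
      _ ≤ (M.orb.length + 1) * chainSize r := by rw [hmul]; exact hcard
  refine ⟨fun x hx => ?_, hr, hK, hstab⟩
  have horb : (MulAction.orbit L p).ncard ≤ M.orb.length + 1 := by
    refine Nat.le_of_mul_le_mul_right ?_ (Nat.card_pos (α := stabIn L p))
    rw [hmul]
    exact hcard.trans (Nat.mul_le_mul_left _ hlow)
  have heq : (T : Set ℕ) = Fin.val '' MulAction.orbit L p := by
    refine Set.eq_of_subset_of_ncard_le hsub ?_ (Set.toFinite _)
    rw [Set.ncard_coe_finset, hT1, Finset.card_singleton, Set.InjOn.ncard_image Fin.val_injective.injOn]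
    omega
  have : (x⁻¹ p).val ∈ (T : Set ℕ) := heq ▸ ⟨x⁻¹ p, ⟨⟨x⁻¹, L.inv_mem hx⟩, rfl⟩, rfl⟩
  rcases (hT2 _).1 this with h | h
  · rw [Finset.mem_singleton.1 h]; exact List.mem_cons_self
  · exact List.mem_cons_of_mem _ h

end Cfsg.Lib.CosetCert
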