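import Cfsg.Agent.CosetCert.OutTwist

/-!
The centraliser test with the cheap part first.
-/

set_option autoImplicit false

namespace Cfsg.Lib.CosetCert.OutTwist

open Cfsg.Lib.PermCert

namespace Data

variable (D : Data)

/-- The test for the centraliser of `y`, commutation first. -/
def testYc (r₁ r₂ : ℕ) : Bool :=
  match sift D.low D.chainY (D.imagesAt 6 D.posY fun b => if b = D.s1 then r₁ else r₂) with
  | none => true
  | some w => !D.sameW (w ++ [6]) (6 :: w) || (
      D.exps.all fun e => (D.outs.any fun o => o.1 == e.1 && D.sameW (w ++ [5]) [o.2]) ||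
        D.rels.any fun d => !D.sameW (D.relWord e.1 d (w ++ [5])) [])

theorem testY_of_testYc {r₁ r₂ : ℕ} (h : D.testYc r₁ r₂ = true) : D.testY r₁ r₂ = true := by
  simp only [testYc] at h
  simp only [testY]
  split at h
  · simp_all
  · rename_i w hw
    rw [hw]
    simpa [Bool.or_comm] using h

end Data

end Cfsg.Lib.CosetCert.OutTwist
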