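import Mathlib

/-!
Certificates for coset enumerations over groups generated by involutions.

A certificate lists names of cosets, each defined from an earlier one by a letter, and facts, each saying that one
named coset times a letter (or times nothing) is another. Every fact is a definition, a subgroup fact, or follows
from earlier facts along a path closing up to a rotated relator.
-/

set_option autoImplicit false

namespace Cfsg.Lib.CosetCert

/-- A binary tree of packed natural numbers. -/
inductive BT
  | leaf (v : ℕ)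
  | node (l r : BT)

/-- The leaf with the given index in a tree of the given depth. -/
def BT.get : BT → ℕ → ℕ → ℕ
  | .leaf v, _, _ => v
  | .node l r, d, i => match d with
    | 0 => 0
    | d + 1 => if (i >>> d) % 2 = 0 then l.get d i else r.get d i

/-- A field of a packed table with 256 fields a leaf. -/
def lookup (t : BT) (d w i : ℕ) : ℕ := (t.get d (i / 256) >>> (w * (i % 256))) % 2 ^ w

/-- A certificate. -/
structure Cert where
  ng : ℕ
  depth : ℕ
  edges : BT
  pars : BT
  subs : List ℕ
  rots : BT
  m : ℕ
  finT : BT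
  tab : BT

variable (C : Cert)

/-- A final coset name. -/
def Cert.fn (k : ℕ) : ℕ := lookup C.finT C.depth 24 k
/-- The final coset names. -/
def Cert.fin : List ℕ := (List.range C.m).map C.fn
/-- The fact for a final coset and a letter. -/
def Cert.tref (k x : ℕ) : ℕ := lookup C.tab C.depth 48 (k * C.ng + x) % 2 ^ 24
/-- The target for a final coset and a letter. -/
def Cert.ttgt (k x : ℕ) : ℕ := lookup C.tab C.depth 48 (k * C.ng + x) / 2 ^ 24

/-- Source of a fact. -/
def Cert.eu (i : ℕ) : ℕ := lookup C.edges C.depth 52 i % 2 ^ 24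
/-- Target of a fact. -/
def Cert.ev (i : ℕ) : ℕ := lookup C.edges C.depth 52 i / 2 ^ 24 % 2 ^ 24
/-- Letter of a fact; the value `ng` is the empty letter. -/
def Cert.el (i : ℕ) : ℕ := lookup C.edges C.depth 52 i / 2 ^ 48

/-- The letters as a word code, in base sixteen with digits shifted by one. -/
def push (ng l code : ℕ) : ℕ := if l < ng then 16 * code + (l + 1) else code

/-- The code of a word. -/
def wcode (w : List ℕ) : ℕ := w.foldl (fun c l => 16 * c + (l + 1)) 0

/-- Follow a path of references below `bound`, collecting the code. -/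
def Cert.walk (bound : ℕ) : List ℕ → ℕ → ℕ → Option (ℕ × ℕ)
  | [], cur, code => some (cur, code)
  | r :: rs, cur, code =>
    if r / 2 < bound then
      if r % 2 = 0 then
        if C.eu (r / 2) = cur then Cert.walk bound rs (C.ev (r / 2)) (push C.ng (C.el (r / 2)) code) else none
      else
        if C.ev (r / 2) = cur then Cert.walk bound rs (C.eu (r / 2)) (push C.ng (C.el (r / 2)) code) else none
    else none

/-- The references packed in a justification. -/
def unpack : ℕ → ℕ → List ℕ
  | 0, _ => []
  | f + 1, n => if n = 0 then [] else (n % 2 ^ 24 - 1) :: unpack f (n >>> 24)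

/-- A step: justification with the number of its rotated relator. `0` is a definition, `1` a subgroup fact. -/
def Cert.stepOK (i : ℕ) (j : ℕ × ℕ) : Bool :=
  if j.1 = 0 then
    decide (C.eu i < C.ev i) && decide (C.el i < C.ng) && (lookup C.pars C.depth 24 (C.ev i) == i)
  else if j.1 = 1 then
    (C.eu i == 0) && (C.ev i == 0) && decide (C.el i ∈ C.subs) && decide (C.el i < C.ng)
  else
    match C.walk i (unpack 200 j.2) (C.eu i) 0 with
    | some (cur, code) => (cur == C.ev i) &&
        (push C.ng (C.el i) code == lookup C.rots C.depth 400 (j.1 - 2))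
    | none => false

/-- Check a block of steps starting at `i₀`. -/
def Cert.stepsOK : ℕ → List (ℕ × ℕ) → Bool
  | _, [] => true
  | i, j :: js => C.stepOK i j && Cert.stepsOK (i + 1) js

/-- The representative words of names. -/
def Cert.rep {G : Type*} [Group G] (im : ℕ → G) (n : ℕ) : G :=
  if h : C.eu (lookup C.pars C.depth 24 n) < n ∧ C.ev (lookup C.pars C.depth 24 n) = n then
    Cert.rep im (C.eu (lookup C.pars C.depth 24 n)) * im (C.el (lookup C.pars C.depth 24 n))
  else 1
  termination_by n
  decreasing_by exact h.1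

/-- The value of a word. -/
def wval {G : Type*} [Group G] (im : ℕ → G) (w : List ℕ) : G := (w.map im).prod

/-- The rotation table agrees with rotations of relators and their reverses. -/
def Cert.rotsOK (R : List (List ℕ)) (spec : List (ℕ × ℕ × Bool)) : Bool :=
  (List.range spec.length).all fun k =>
    match spec[k]? with
    | some (i, s, b) =>
      lookup C.rots C.depth 400 k == wcode ((if b then (R.getD i []).reverse else R.getD i []).rotate s) &&
        (R.getD i []).all (fun l => decide (l < 15))
    | none => false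

theorem wcode_inj : ∀ {w w' : List ℕ}, (∀ l ∈ w, l < 15) → (∀ l ∈ w', l < 15) → wcode w = wcode w' → w = w' := by
  have key : ∀ (w : List ℕ) (l : ℕ), wcode (w ++ [l]) = 16 * wcode w + (l + 1) := fun w l => by
    simp [wcode, List.foldl_append]
  intro w
  induction w using List.reverseRecOn with
  | nil =>
    intro w' _ h' h
    induction w' using List.reverseRecOn with
    | nil => rfl
    | append_singleton w' l _ => rw [key] at h; simp [wcode] at h
  | append_singleton w l ih =>
    intro w' h0 h' h
    induction w' using List.reverseRecOn with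
    | nil => rw [key] at h; simp [wcode] at h
    | append_singleton w' l' _ =>
      rw [key, key] at h
      have h1 := h0 l (by simp)
      have h2 := h' l' (by simp)
      obtain rfl : l = l' := by omega
      have e : wcode w = wcode w' := by omega
      rw [ih (fun a ha => h0 a (List.mem_append_left [l] ha)) (fun a ha => h' a (List.mem_append_left [l] ha)) e]

variable {G : Type*} [Group G] (im : ℕ → G)

/-- The value of a letter that may be empty. -/
def lval (ng : ℕ) (l : ℕ) : G := if l < ng then im l else 1

theorem push_code (ng l : ℕ) (w : List ℕ) :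
    push ng l (wcode w) = wcode (if l < ng then w ++ [l] else w) := by
  unfold push
  split_ifs with h <;> simp [wcode, List.foldl_append]

/-- A fact holds in the group relative to a subgroup. -/
def Cert.Holds (K : Subgroup G) (i : ℕ) : Prop :=
  C.rep im (C.eu i) * lval im C.ng (C.el i) * (C.rep im (C.ev i))⁻¹ ∈ K

theorem lval_sq (hinv : ∀ l, l < C.ng → im l * im l = 1) (l : ℕ) : (lval im C.ng l)⁻¹ = lval im C.ng l := by
  unfold lval
  split_ifs with h
  · exact inv_eq_of_mul_eq_one_left (hinv l h)
  · simp

theorem walk_sound {K : Subgroup G} (hng : C.ng ≤ 15) (hinv : ∀ l, l < C.ng → im l * im l = 1) {bound : ℕ}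
    (hold : ∀ i < bound, C.Holds im K i) : ∀ (rs : List ℕ) (start cur : ℕ) (w : List ℕ),
    (∀ l ∈ w, l < 15) → C.rep im start * wval im w * (C.rep im cur)⁻¹ ∈ K → ∀ res, C.walk bound rs cur (wcode w) = some res →
    ∃ w', (∀ l ∈ w', l < 15) ∧ res.2 = wcode w' ∧ C.rep im start * wval im w' * (C.rep im res.1)⁻¹ ∈ K
  | [], start, cur, w, hw, hmem, res, h => by
    simp only [Cert.walk, Option.some.injEq] at h
    subst h
    exact ⟨w, hw, rfl, hmem⟩
  | r :: rs, start, cur, w, hw, hmem, res, h => by
    simp only [Cert.walk] at h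
    split_ifs at h with hb h0 he he
    all_goals
      rw [push_code] at h
      refine walk_sound hng hinv hold rs start _ _ ?_ ?_ res h
    all_goals first
      | (intro l hl
         split_ifs at hl with hlt
         · rcases List.mem_append.1 hl with hl | hl
           · exact hw l hl
           · rw [List.mem_singleton] at hl; omega
         · exact hw l hl)
      | skip
    all_goals
      have hi := hold (r / 2) hb
      have hval : ∀ v : List ℕ, wval im (if C.el (r / 2) < C.ng then v ++ [C.el (r / 2)] else v) =
          wval im v * lval im C.ng (C.el (r / 2)) := fun v => by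
        unfold lval
        split_ifs <;> simp [wval]
      rw [hval]
    · rw [Cert.Holds, he] at hi
      convert K.mul_mem hmem hi using 1
      group
    · rw [Cert.Holds, he] at hi
      have hi' := K.inv_mem hi
      rw [mul_inv_rev, mul_inv_rev, inv_inv, lval_sq C im hinv, ← mul_assoc] at hi'
      convert K.mul_mem hmem hi' using 1
      group

theorem wval_rotate {w : List ℕ} (h : wval im w = 1) (n : ℕ) : wval im (w.rotate n) = 1 := by
  unfold wval at h ⊢
  rw [List.rotate_eq_drop_append_take_mod, List.map_append, List.prod_append]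
  rw [← List.take_append_drop (n % w.length) w, List.map_append, List.prod_append] at h
  exact mul_eq_one_comm.1 h

theorem wval_reverse : ∀ {w : List ℕ}, (∀ l ∈ w, im l * im l = 1) → wval im w.reverse = (wval im w)⁻¹
  | [], _ => by simp [wval]
  | a :: w, h => by
    simp only [wval, List.reverse_cons, List.map_append, List.prod_append, List.map_cons, List.map_nil,
      List.prod_cons, List.prod_nil, mul_one, mul_inv_rev]
    have := wval_reverse (w := w) fun l hl => h l (List.mem_cons_of_mem a hl)
    simp only [wval] at this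
    rw [this, inv_eq_of_mul_eq_one_left (h a List.mem_cons_self)]

theorem rot_sound {R : List (List ℕ)} {spec : List (ℕ × ℕ × Bool)} (hrot : C.rotsOK R spec = true)
    (hR : ∀ r ∈ R, wval im r = 1) (hRinv : ∀ r ∈ R, ∀ l ∈ r, im l * im l = 1) {k : ℕ} (hk : k < spec.length) :
    ∃ w : List ℕ, (∀ l ∈ w, l < 15) ∧ lookup C.rots C.depth 400 k = wcode w ∧ wval im w = 1 := by
  have h := List.all_eq_true.1 hrot k (List.mem_range.2 hk)
  rw [List.getElem?_eq_getElem hk] at h
  rcases e : spec[k] with ⟨i, s, b⟩
  rw [e] at h
  simp only [Bool.and_eq_true, beq_iff_eq, List.all_eq_true, decide_eq_true_eq] at h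
  refine ⟨_, ?_, h.1, ?_⟩
  · intro l hl
    rw [List.mem_rotate] at hl
    refine h.2 l ?_
    cases b <;> simpa using hl
  · have hrel : wval im (R.getD i []) = 1 ∧ ∀ l ∈ R.getD i [], im l * im l = 1 := by
      rcases lt_or_ge i R.length with hi | hi
      · rw [List.getD_eq_getElem _ _ hi]
        exact ⟨hR _ (List.getElem_mem hi), hRinv _ (List.getElem_mem hi)⟩
      · rw [List.getD_eq_default _ _ hi]
        simp [wval]
    refine wval_rotate im ?_ s
    cases b
    · simpa using hrel.1
    · rw [if_pos rfl, wval_reverse im hrel.2, hrel.1, inv_one]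

/-- All rules used by the steps are within the table. -/
def ruleBound (n : ℕ) (js : List (ℕ × ℕ)) : Bool := js.all fun j => decide (j.1 < n + 2)

theorem steps_sound {K : Subgroup G} (hng : C.ng ≤ 15) (hinv : ∀ l, l < C.ng → im l * im l = 1)
    {R : List (List ℕ)} {spec : List (ℕ × ℕ × Bool)} (hrot : C.rotsOK R spec = true)
    (hR : ∀ r ∈ R, wval im r = 1) (hRinv : ∀ r ∈ R, ∀ l ∈ r, im l * im l = 1)
    (hsub : ∀ s ∈ C.subs, im s ∈ K) :
    ∀ (js : List (ℕ × ℕ)) (i₀ : ℕ), C.stepsOK i₀ js = true → ruleBound spec.length js = true →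
      (∀ i < i₀, C.Holds im K i) → ∀ i < i₀ + js.length, C.Holds im K i
  | [], i₀, _, _, h, i, hi => h i (by simpa using hi)
  | j :: js, i₀, hs, hb, h, i, hi => by
    simp only [Cert.stepsOK, Bool.and_eq_true] at hs
    simp only [ruleBound, List.all_cons, Bool.and_eq_true, decide_eq_true_eq] at hb
    refine steps_sound hng hinv hrot hR hRinv hsub js (i₀ + 1) hs.2 hb.2 ?_ i (by simp at hi; omega)
    intro n hn
    rcases Nat.lt_succ_iff_lt_or_eq.1 hn with hn | rfl
    · exact h n hn
    have hs1 := hs.1
    unfold Cert.stepOK at hs1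
    split_ifs at hs1 with h0 h1
    · simp only [Bool.and_eq_true, decide_eq_true_eq, beq_iff_eq] at hs1
      obtain ⟨⟨hlt, hl⟩, hp⟩ := hs1
      have e : C.rep im (C.ev n) = C.rep im (C.eu n) * im (C.el n) := by
        conv_lhs => rw [Cert.rep]
        rw [hp, dif_pos ⟨hlt, rfl⟩]
      rw [Cert.Holds, e, lval, if_pos hl, mul_inv_cancel]
      exact K.one_mem
    · simp only [Bool.and_eq_true, decide_eq_true_eq, beq_iff_eq] at hs1
      obtain ⟨⟨⟨hu, hv⟩, hm⟩, hl⟩ := hs1
      have e : C.rep im 0 = 1 := by rw [Cert.rep, dif_neg (by omega)]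
      rw [Cert.Holds, hu, hv, e, lval, if_pos hl]
      simpa using hsub _ hm
    · split at hs1
      · next cur code hw =>
        simp only [Bool.and_eq_true, beq_iff_eq] at hs1
        obtain ⟨w, hwl, hwc, hmem⟩ := walk_sound C im hng hinv h (unpack 200 j.2) (C.eu n) (C.eu n) []
          (by simp) (by simp [wval]) _ (by simpa [wcode] using hw)
        obtain ⟨v, hvl, hvc, hv1⟩ := rot_sound C im hrot hR hRinv (k := j.1 - 2) (by omega)
        rw [hvc, show code = wcode w from hwc, push_code] at hs1
        have hwv := wcode_inj (fun l hl => by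
          split_ifs at hl with hlt
          · rcases List.mem_append.1 hl with hl | hl
            · exact hwl l hl
            · rw [List.mem_singleton] at hl; omega
          · exact hwl l hl) hvl hs1.2
        have e : wval im w * lval im C.ng (C.el n) = 1 := by
          rw [← hv1, ← hwv]
          unfold lval
          split_ifs <;> simp [wval]
        rw [Cert.Holds, show lval im C.ng (C.el n) = wval im w from ?_]
        · simpa [hs1.1] using hmem
        · rw [← lval_sq C im hinv]
          exact inv_eq_of_mul_eq_one_left e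
      · simp at hs1

/-- The final table: every listed coset times every letter is a listed coset. -/
def Cert.tabOK (n : ℕ) : Bool :=
  decide (0 < C.m) && (C.fn 0 == 0) &&
  (List.range C.m).all fun k => (List.range C.ng).all fun x =>
    let r := C.tref k x
    let j := C.ttgt k x
    decide (r / 2 < n) && (C.el (r / 2) == x) && decide (j < C.m) &&
      if r % 2 = 0 then (C.eu (r / 2) == C.fn k) && (C.ev (r / 2) == C.fn j)
      else (C.ev (r / 2) == C.fn k) && (C.eu (r / 2) == C.fn j)

/-- Everything to be checked. -/
structure Cert.Valid (R : List (List ℕ)) : Prop where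
  small : C.ng ≤ 15
  data : ∃ (spec : List (ℕ × ℕ × Bool)) (js : List (ℕ × ℕ)), C.rotsOK R spec = true ∧ C.stepsOK 0 js = true ∧
    ruleBound spec.length js = true ∧ C.tabOK js.length = true

theorem stepsOK_append : ∀ (a b : List (ℕ × ℕ)) (i : ℕ),
    C.stepsOK i a = true → C.stepsOK (i + a.length) b = true → C.stepsOK i (a ++ b) = true
  | [], b, i, _, h => by simpa using h
  | x :: a, b, i, ha, hb => by
    simp only [Cert.stepsOK, Bool.and_eq_true] at ha
    simp only [List.cons_append, Cert.stepsOK, Bool.and_eq_true]
    exact ⟨ha.1, stepsOK_append a b (i + 1) ha.2 (by simpa [Nat.add_assoc, Nat.add_comm 1] using hb)⟩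

theorem exists_coset {K L : Subgroup G} {R : List (List ℕ)} (hC : C.Valid R)
    (hinv : ∀ l, l < C.ng → im l * im l = 1) (hR : ∀ r ∈ R, wval im r = 1)
    (hRinv : ∀ r ∈ R, ∀ l ∈ r, im l * im l = 1) (hsub : ∀ s ∈ C.subs, im s ∈ K)
    (hL : L ≤ Subgroup.closure (im '' Set.Iio C.ng)) {g : G} (hg : g ∈ L) :
    ∃ k ∈ C.fin, g * (C.rep im k)⁻¹ ∈ K := by
  obtain ⟨spec, js, hrot, hsteps, hb, htab⟩ := hC.data
  have hold := steps_sound C im hC.small hinv hrot hR hRinv hsub js 0 hsteps hb (by omega)
  simp only [Cert.tabOK, Bool.and_eq_true, beq_iff_eq, List.all_eq_true, List.mem_range,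
    decide_eq_true_eq] at htab
  obtain ⟨⟨hm, h0⟩, htab⟩ := htab
  have mem : ∀ j < C.m, C.fn j ∈ C.fin := fun j hj => List.mem_map.2 ⟨j, List.mem_range.2 hj, rfl⟩
  have step : ∀ k ∈ C.fin, ∀ x < C.ng, ∃ k' ∈ C.fin, C.rep im k * im x * (C.rep im k')⁻¹ ∈ K := by
    intro k hk x hx
    obtain ⟨p, hp, rfl⟩ := List.mem_map.1 hk
    rw [List.mem_range] at hp
    obtain ⟨⟨⟨hr, hl⟩, hj⟩, he⟩ := htab p hp x hx
    have hi := hold (C.tref p x / 2) (by omega)
    rw [Cert.Holds, hl, lval, if_pos hx] at hi
    refine ⟨_, mem _ hj, ?_⟩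
    split_ifs at he with hodd
    · simp only [Bool.and_eq_true, beq_iff_eq] at he
      rwa [he.1, he.2] at hi
    · simp only [Bool.and_eq_true, beq_iff_eq] at he
      rw [he.1, he.2] at hi
      have := K.inv_mem hi
      rwa [mul_inv_rev, mul_inv_rev, inv_inv, inv_eq_of_mul_eq_one_left (hinv x hx), ← mul_assoc] at this
  have hz : C.rep im 0 = 1 := by rw [Cert.rep, dif_neg (by omega)]
  replace hg := hL hg
  clear hL
  induction hg using Subgroup.closure_induction_right with
  | one => exact ⟨0, h0 ▸ mem 0 hm, by simp [hz]⟩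
  | mul_right a b _ hb ih =>
    obtain ⟨x, hx, rfl⟩ := hb
    obtain ⟨k, hk, hak⟩ := ih
    obtain ⟨k', hk', hkk⟩ := step k hk x hx
    refine ⟨k', hk', ?_⟩
    convert K.mul_mem hak hkk using 1
    group
  | mul_inv_cancel a b _ hb ih =>
    obtain ⟨x, hx, rfl⟩ := hb
    obtain ⟨k, hk, hak⟩ := ih
    obtain ⟨k', hk', hkk⟩ := step k hk x hx
    refine ⟨k', hk', ?_⟩
    rw [inv_eq_of_mul_eq_one_left (hinv x hx)]
    convert K.mul_mem hak hkk using 1
    group

/-- The order bound. -/
theorem card_le {K L : Subgroup G} [Finite K] {R : List (List ℕ)} (hC : C.Valid R)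
    (hinv : ∀ l, l < C.ng → im l * im l = 1) (hR : ∀ r ∈ R, wval im r = 1)
    (hRinv : ∀ r ∈ R, ∀ l ∈ r, im l * im l = 1) (hsub : ∀ s ∈ C.subs, im s ∈ K)
    (hL : L ≤ Subgroup.closure (im '' Set.Iio C.ng)) :
    Finite L ∧ Nat.card L ≤ C.fin.length * Nat.card K := by
  choose k hk hmem using fun g : L => exists_coset C im hC hinv hR hRinv hsub hL g.2
  let f : L → Fin C.fin.length × K := fun g =>
    (⟨C.fin.idxOf (k g), List.idxOf_lt_length_of_mem (hk g)⟩, ⟨_, hmem g⟩)
  have hf : Function.Injective f := fun a b h => by
    simp only [f, Prod.mk.injEq, Fin.mk.injEq, Subtype.mk.injEq] at h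
    have e := (List.idxOf_inj (hk a)).1 h.1
    rw [e] at h
    exact Subtype.ext (mul_right_cancel h.2)
  refine ⟨Finite.of_injective f hf, (Nat.card_le_card_of_injective f hf).trans ?_⟩
  rw [Nat.card_prod, Nat.card_eq_fintype_card (α := Fin C.fin.length), Fintype.card_fin]

end Cfsg.Lib.CosetCert

namespace Cfsg.Lib.CosetCert

theorem stepsOK_cat {C : Cert} {n i j : ℕ} {a b : List (ℕ × ℕ)}
    (ha : C.stepsOK i a = true ∧ ruleBound n a = true) (hb : C.stepsOK j b = true ∧ ruleBound n b = true)
    (hj : i + a.length = j) : C.stepsOK i (a ++ b) = true ∧ ruleBound n (a ++ b) = true :=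
  ⟨stepsOK_append C a b i ha.1 (hj ▸ hb.1), by
    rw [ruleBound, List.all_append, Bool.and_eq_true]; exact ⟨ha.2, hb.2⟩⟩

end Cfsg.Lib.CosetCert
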