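import Cfsg.Agent.CosetCert.Basic
import Cfsg.Agent.PermCert.Basic

/-!
Lower bounds for orders from orbits of point stabilisers given by words.
-/

set_option autoImplicit false

namespace Cfsg.Lib.CosetCert

open Cfsg.Lib.PermCert

/-- The image of a point under a word, read left to right. -/
def evalW (tabs : List PP) (w : List ℕ) (x : ℕ) : ℕ :=
  w.foldl (fun y l => ap (tabs.getD l (0, 0)).2 y) x

/-- A level of a lower-bound chain. -/
structure Lev where
  b : ℕ
  gens : List (List ℕ)
  orb : List (ℕ × ℕ × ℕ)

/-- Each entry is a new point, the image of a seen point under a generator. -/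
def scanOrb (tabs : List PP) (n : ℕ) (gens : List (List ℕ)) : ℕ → List (ℕ × ℕ × ℕ) → Bool
  | _, [] => true
  | seen, (q, par, g) :: r =>
    decide (q < n) && !seen.testBit q && seen.testBit par && decide (g < gens.length) &&
      (evalW tabs (gens.getD g []) par == q) && scanOrb tabs n gens (seen ||| 1 <<< q) r

/-- The orbit entries after the base point are reached and distinct. -/
def Lev.ok (tabs : List PP) (n : ℕ) (L : Lev) : Bool :=
  decide (L.b < n) && scanOrb tabs n L.gens (1 <<< L.b) L.orb

/-- Later generators fix this base point. -/
def Lev.fixes (tabs : List PP) (L M : Lev) : Bool :=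
  M.gens.all fun w => evalW tabs w L.b == L.b

/-- The generators of later levels are words in letters below the bound. -/
def Lev.letters (ng : ℕ) (L : Lev) : Bool := L.gens.all fun w => w.all fun l => decide (l < ng)

/-- A chain: each level is valid and each later generator fixes the earlier base points. -/
def chainOK (tabs : List PP) (n ng : ℕ) : List Lev → Bool
  | [] => true
  | L :: r => L.ok tabs n && L.letters ng && r.all (L.fixes tabs) && chainOK tabs n ng r

/-- The product of the orbit lengths. -/
def chainSize : List Lev → ℕ
  | [] => 1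
  | L :: r => (L.orb.length + 1) * chainSize r

variable {G : Type*} [Group G] {n : ℕ} (im : ℕ → G) (ψ : G →* Equiv.Perm (Fin n)) (tabs : List PP)

/-- A word acts as its table. -/
theorem evalW_apply (hψ : ∀ l < tabs.length, valid n (tabs.getD l (0, 0)) = true ∧
      ψ (im l) = perm n (tabs.getD l (0, 0))) :
    ∀ (w : List ℕ), (∀ l ∈ w, l < tabs.length) → ∀ x : Fin n,
      ((ψ (wval im w))⁻¹ x : ℕ) = evalW tabs w x
  | [], _, x => by simp [wval, evalW]
  | l :: w, h, x => by
    have hl := hψ l (h l List.mem_cons_self)
    have e : wval im (l :: w) = im l * wval im w := by simp [wval]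
    have e2 : evalW tabs (l :: w) x = evalW tabs w (ap (tabs.getD l (0, 0)).2 x) := by simp [evalW]
    have e3 : (((ψ (im l))⁻¹ x : Fin n) : ℕ) = ap (tabs.getD l (0, 0)).2 x := by
      rw [hl.2, ← perm_pinv hl.1, perm_apply (valid_pinv hl.1)]
      rfl
    rw [e, map_mul, mul_inv_rev, Equiv.Perm.mul_apply, evalW_apply hψ w (fun a ha => h a (List.mem_cons_of_mem l ha)),
      e3, e2]

theorem chain_bound (hψ : ∀ l < tabs.length, valid n (tabs.getD l (0, 0)) = true ∧
      ψ (im l) = perm n (tabs.getD l (0, 0))) :
    ∀ (c : List Lev) (L : Subgroup G), chainOK tabs n tabs.length c = true → Finite L →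
      (∀ K ∈ c, ∀ w ∈ K.gens, wval im w ∈ L) → chainSize c ≤ Nat.card L
  | [], L, _, hfin, _ => by
    rw [chainSize]
    exact Nat.card_pos
  | M :: r, L, hc, hfin, hmem => by
    simp only [chainOK, Bool.and_eq_true] at hc
    obtain ⟨⟨⟨hok, hlet⟩, hfix⟩, hr⟩ := hc
    simp only [Lev.ok, Bool.and_eq_true, decide_eq_true_eq] at hok
    obtain ⟨hb, horb⟩ := hok
    simp only [Lev.letters, List.all_eq_true, decide_eq_true_eq] at hlet
    let act : MulAction L (Fin n) := MulAction.compHom (Fin n) (ψ.comp L.subtype)
    letI := act
    set p : Fin n := ⟨M.b, hb⟩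
    let S : Subgroup G := (MulAction.stabilizer L p).map L.subtype
    have hS : chainSize r ≤ Nat.card S := by
      haveI : Finite L := hfin
      have hSfin : Finite S := Finite.of_equiv _
        ((MulAction.stabilizer L p).equivMapOfInjective L.subtype L.subtype_injective).toEquiv
      refine chain_bound hψ r S hr hSfin fun K hK w hw => ?_
      refine ⟨⟨_, hmem K (List.mem_cons_of_mem M hK) w hw⟩, ?_, rfl⟩
      have hfw := List.all_eq_true.1 hfix K hK
      simp only [Lev.fixes, List.all_eq_true, beq_iff_eq] at hfw
      rw [SetLike.mem_coe, MulAction.mem_stabilizer_iff]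
      show ψ (wval im w) p = p
      have hl : ∀ l ∈ w, l < tabs.length := by
        intro l hl
        have hcl := chain_letters tabs r hr K hK
        exact hcl w hw l hl
      have e := evalW_apply im ψ tabs hψ w hl p
      rw [show evalW tabs w (p : ℕ) = M.b from hfw w hw] at e
      have e' : (ψ (wval im w))⁻¹ p = p := Fin.ext e
      conv_lhs => rw [← e']
      simp
    have horbit : M.orb.length + 1 ≤ Nat.card (MulAction.orbit L p) := by
      have scan : ∀ (es : List (ℕ × ℕ × ℕ)) (seen : ℕ) (S : Finset (Fin n)),
          (∀ x : Fin n, seen.testBit x = true ↔ x ∈ S) → (∀ j, n ≤ j → seen.testBit j = false) →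
          (∀ x ∈ S, x ∈ MulAction.orbit L p) → scanOrb tabs n M.gens seen es = true →
          S.card + es.length ≤ Nat.card (MulAction.orbit L p) := by
        intro es
        induction es with
        | nil =>
          intro seen S _ _ hS _
          have hf : Function.Injective (fun x : S => (⟨x.1, hS x.1 x.2⟩ : MulAction.orbit L p)) := fun a b h => by
            simp only [Subtype.mk.injEq] at h
            exact Subtype.ext h
          simpa using Nat.card_le_card_of_injective _ hf
        | cons e r ih =>
          intro seen S hseen hhigh hS hsc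
          obtain ⟨q, par, g⟩ := e
          simp only [scanOrb, Bool.and_eq_true, decide_eq_true_eq, Bool.not_eq_true', beq_iff_eq] at hsc
          obtain ⟨⟨⟨⟨⟨hq, hnew⟩, hpar⟩, hg⟩, hev⟩, hrest⟩ := hsc
          have hparlt : par < n := by
            by_contra h
            rw [hhigh par (by omega)] at hpar
            exact Bool.noConfusion hpar
          rw [List.getD_eq_getElem _ _ hg] at hev
          have hw : M.gens[g] ∈ M.gens := List.getElem_mem hg
          have e := evalW_apply im ψ tabs hψ _ (hlet _ hw) ⟨par, hparlt⟩
          rw [hev] at e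
          have hqo : (⟨q, hq⟩ : Fin n) ∈ MulAction.orbit L p := by
            obtain ⟨k, hk⟩ := hS ⟨par, hparlt⟩ ((hseen _).1 hpar)
            refine ⟨⟨_, L.inv_mem (hmem M List.mem_cons_self _ hw)⟩ * k, ?_⟩
            show (ψ ((wval im _)⁻¹ * (k : G))) p = _
            rw [map_mul, Equiv.Perm.mul_apply, show (ψ (k : G)) p = _ from hk, map_inv]
            exact Fin.ext e
          have hqS : (⟨q, hq⟩ : Fin n) ∉ S := fun h => by
            rw [(hseen _).2 h] at hnew
            exact Bool.noConfusion hnew
          have := ih (seen ||| 1 <<< q) (insert ⟨q, hq⟩ S)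
            (fun x => by
              rw [Nat.testBit_or, Nat.one_shiftLeft, Nat.testBit_two_pow, Bool.or_eq_true, decide_eq_true_eq,
                hseen, Finset.mem_insert, Fin.ext_iff]
              exact or_comm.trans (or_congr ⟨Eq.symm, Eq.symm⟩ Iff.rfl))
            (fun j hj => by
              rw [Nat.testBit_or, Nat.one_shiftLeft, Nat.testBit_two_pow, hhigh j hj, Bool.false_or,
                decide_eq_false_iff_not]
              omega)
            (fun x hx => by
              rcases Finset.mem_insert.1 hx with rfl | hx
              · exact hqo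
              · exact hS x hx) hrest
          rw [Finset.card_insert_of_notMem hqS] at this
          simp only [List.length_cons]
          omega
      have := scan M.orb (1 <<< M.b) {p} (fun x => by
          rw [Nat.one_shiftLeft, Nat.testBit_two_pow, decide_eq_true_eq, Finset.mem_singleton, Fin.ext_iff]
          exact ⟨Eq.symm, Eq.symm⟩)
        (fun j hj => by rw [Nat.one_shiftLeft, Nat.testBit_two_pow, decide_eq_false_iff_not]; omega)
        (fun x hx => by rw [Finset.mem_singleton.1 hx]; exact MulAction.mem_orbit_self p) horb
      rw [Finset.card_singleton] at this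
      omega
    calc chainSize (M :: r) = (M.orb.length + 1) * chainSize r := rfl
      _ ≤ Nat.card (MulAction.orbit L p) * Nat.card (MulAction.stabilizer L p) := by
          refine Nat.mul_le_mul horbit (hS.trans (le_of_eq ?_))
          exact Nat.card_congr ((MulAction.stabilizer L p).equivMapOfInjective L.subtype L.subtype_injective).symm.toEquiv
      _ = Nat.card L := by
          rw [← Nat.card_prod]
          exact Nat.card_congr (MulAction.orbitProdStabilizerEquivGroup L p)
where
  chain_letters (tabs : List PP) : ∀ (c : List Lev), chainOK tabs n tabs.length c = true →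
      ∀ K ∈ c, ∀ w ∈ K.gens, ∀ l ∈ w, l < tabs.length
    | [], _, K, hK => by simp at hK
    | M :: r, hc, K, hK => by
      simp only [chainOK, Bool.and_eq_true] at hc
      rcases List.mem_cons.1 hK with rfl | hK
      · simpa [Lev.letters] using hc.1.1.2
      · exact chain_letters tabs r hc.2 K hK

end Cfsg.Lib.CosetCert
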