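import Cfsg.Agent.CosetCert.Sift
import Cfsg.Prelude.Def_KGroupFacts
import Mathlib.GroupTheory.Sylow

/-!
Certificates bounding the outer automorphism group of a permutation group generated by four involutions.

Letters: 0..3 the involutions, 4 an element `u` of prime order with cyclic centraliser, 5 an element `x` generating
together with `u`, 6 an element `y` normalising the powers of `u` and whose powers are permuted by `x`, 7 an element `n` inducing
a power map on the powers of `u`, and further letters for the possible images of `x` and for outer elements.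
-/

set_option autoImplicit false
set_option maxRecDepth 4000

namespace Cfsg.Lib.CosetCert.OutTwist

open Cfsg Cfsg.Lib.PermCert

/-- The data of a certificate. -/
structure Data where
  /-- Number of points. -/
  n : ℕ
  /-- The order of the group. -/
  ord : ℕ
  /-- The prime. -/
  p : ℕ
  /-- Tables of the four involutions. -/
  low : List PP
  /-- Tables of the further letters. -/
  high : List PP
  /-- A chain starting in the orbit of a point under `u`. -/
  chainU : List SLev
  /-- A chain starting in orbits under `y`. -/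
  chainY : List SLev
  /-- Exponents along the orbit of the starting point of the first chain. -/
  posU : List (ℕ × ℕ)
  /-- Exponents along the orbits of the starting points of the second chain. -/
  posY : List (ℕ × ℕ)
  /-- First starting point of the second chain. -/
  s1 : ℕ
  /-- Second starting point of the second chain. -/
  s2 : ℕ
  /-- Starting point of the first chain. -/
  s0 : ℕ
  /-- `u * y = y * u ^ a`. -/
  a : ℕ
  /-- `u * n = n * u ^ k`. -/
  k : ℕ
  /-- Representatives of exponents modulo powers of `k`, each with an inverse modulo the prime. -/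
  exps : List (ℕ × ℕ)
  /-- Relations in `x` and powers of `u`. -/
  rels : List (ℕ × List ℕ)
  /-- The possible images: an exponent for `u` and a letter for `x`. -/
  outs : List (ℕ × ℕ)
  /-- Words in the involutions for the letters 4, 5, 6, 7 and the images of `x`. -/
  memWords : List (ℕ × List ℕ)
  /-- `x * y = y ^ b * x`. -/
  b : ℕ
  /-- An inverse of `b` modulo the order of `y`. -/
  binv : ℕ
  /-- The involutions as words in `u` and `x`. -/
  letWords : List (List ℕ)

namespace Data

variable (D : Data)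

/-- All tables. -/
def xTabs : List PP := D.low ++ D.high

/-- The number of letters. -/
def nl : ℕ := 4 + D.high.length

/-- All letters are in the alphabet. -/
def inX (w : List ℕ) : Bool := w.all fun l => Nat.blt l D.nl

/-- A word uses only the involutions. -/
def isLow (w : List ℕ) : Bool := w.all fun l => Nat.blt l 4

/-- Two words give the same permutation. -/
def sameW (w v : List ℕ) : Bool :=
  D.inX w && D.inX v && (List.range D.n).all fun x => evalW D.xTabs w x == evalW D.xTabs v x

/-- Images along orbits. -/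
def imagesAt (g : ℕ) (ps : List (ℕ × ℕ)) (r : ℕ → ℕ) : List ℕ :=
  ps.map fun q => evalW D.xTabs (List.replicate q.1 g) (r q.2)

/-- The test for the centraliser of `u`. -/
def testU (r : ℕ) : Bool :=
  ((List.range D.p).any fun i => evalW D.xTabs (List.replicate i 4) D.s0 == r) ||
    match sift D.low D.chainU (D.imagesAt 4 D.posU fun _ => r) with
    | none => true
    | some w => !D.sameW (w ++ [4]) (4 :: w)

/-- A relation word in an element and powers of `u`, with exponents scaled. -/
def relWord (e : ℕ) (d : ℕ × List ℕ) (x : List ℕ) : List ℕ :=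
  (List.replicate d.1 (d.2.flatMap fun i => x ++ List.replicate (e * i % D.p) 4)).flatten

/-- The test for the centraliser of `y`. -/
def testY (r₁ r₂ : ℕ) : Bool :=
  match sift D.low D.chainY (D.imagesAt 6 D.posY fun b => if b = D.s1 then r₁ else r₂) with
  | none => true
  | some w => (
      D.exps.all fun e => (D.outs.any fun o => o.1 == e.1 && D.sameW (w ++ [5]) [o.2]) ||
        D.rels.any fun d => !D.sameW (D.relWord e.1 d (w ++ [5])) []) ||
      !D.sameW (w ++ [6]) (6 :: w)

/-- Static checks. -/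
def staticOK : Bool :=
  decide (D.low.length = 4) && decide (4 ≤ D.high.length) && D.xTabs.all (valid D.n) &&
  ((List.range 4).all fun l => D.sameW [l, l] []) &&
  chainOK D.low D.n 4 (D.chainU.map SLev.lev) && D.chainU.all (SLev.ok D.low) &&
  decide (chainSize (D.chainU.map SLev.lev) = D.ord) &&
  chainOK D.low D.n 4 (D.chainY.map SLev.lev) && D.chainY.all (SLev.ok D.low) &&
  decide (chainSize (D.chainY.map SLev.lev) = D.ord) &&
  ((D.chainU ++ D.chainY).all fun S => S.lev.gens.all fun g => isLow g)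

/-- Checks of the local relations. -/
def localOK : Bool :=
  decide (D.p ∣ D.ord) && decide (¬ D.p ^ 2 ∣ D.ord) &&
  decide (D.s0 < D.n) && decide (D.s1 < D.n) && decide (D.s2 < D.n) &&
  (D.posU.all fun q => q.2 == D.s0) && (D.posY.all fun q => q.2 == D.s1 || q.2 == D.s2) &&
  ((D.chainU.map fun S => S.lev.b) == D.imagesAt 4 D.posU id) &&
  ((D.chainY.map fun S => S.lev.b) == D.imagesAt 6 D.posY id) &&
  D.sameW (List.replicate D.p 4) [] && !D.sameW [4] [] &&
  D.sameW [4, 6] (6 :: List.replicate D.a 4) && D.sameW [4, 7] (7 :: List.replicate D.k 4) &&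
  D.sameW [5, 6] (List.replicate D.b 6 ++ [5]) && D.sameW (List.replicate (D.b * D.binv) 6) [6] &&
  ([4, 5, 6, 7].all fun l => D.memWords.any fun m => m.1 == l) &&
  (D.outs.all fun o => D.memWords.any fun m => m.1 == o.2) &&
  (D.memWords.all fun m => D.sameW [m.1] m.2 && isLow m.2) &&
  ((List.range 4).all fun l => D.sameW (D.letWords.getD l []) [l] &&
    (D.letWords.getD l []).all fun b => b == 4 || b == 5) &&
  (D.rels.all fun d => D.sameW (D.relWord 1 d [5]) []) &&
  (D.exps.all fun e => e.1 * e.2 % D.p == 1) &&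
  ((List.range' 1 (D.p - 1)).all fun r =>
    D.exps.any fun e => (List.range D.p).any fun m => e.1 * D.k ^ m % D.p == r) &&
  ((List.range D.p).all fun i => (List.range D.p).any fun m => (D.a * (m + i) + (D.p - 1) * m) % D.p == 0)

/-- The checks. -/
structure Valid : Prop where
  prime : D.p.Prime
  static : D.staticOK = true
  local_ : D.localOK = true
  testU : ∀ r < D.n, D.testU r = true
  testY : ∀ r₁ < D.n, ∀ r₂ < D.n, (D.s1 = D.s2 → r₁ = r₂) → D.testY r₁ r₂ = true

/-- The permutation of a letter. -/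
def im (l : ℕ) : Equiv.Perm (Fin D.n) := perm D.n (D.xTabs.getD l (0, 0))

/-- The group generated by the involutions. -/
def grp : Subgroup (Equiv.Perm (Fin D.n)) := Subgroup.closure (D.im '' Set.Iio 4)

variable {D}

theorem Valid.low_len (h : D.Valid) : D.low.length = 4 ∧ 4 ≤ D.high.length := by
  have := h.static
  simp only [staticOK, Bool.and_eq_true, decide_eq_true_eq] at this
  tauto

theorem Valid.nl_eq (h : D.Valid) : D.xTabs.length = D.nl := by
  rw [xTabs, List.length_append, nl, h.low_len.1]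

theorem Valid.act (h : D.Valid) : ∀ l < D.xTabs.length, valid D.n (D.xTabs.getD l (0, 0)) = true ∧
    (MonoidHom.id (Equiv.Perm (Fin D.n))) (D.im l) = perm D.n (D.xTabs.getD l (0, 0)) := by
  have := h.static
  simp only [staticOK, Bool.and_eq_true] at this
  have hv : D.xTabs.all (valid D.n) = true := by tauto
  intro l hl
  refine ⟨?_, rfl⟩
  rw [List.getD_eq_getElem _ _ hl]
  exact List.all_eq_true.1 hv _ (List.getElem_mem hl)

theorem Valid.evalX (h : D.Valid) {w : List ℕ} (hw : D.inX w = true) (x : Fin D.n) :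
    (((wval D.im w)⁻¹ x : Fin D.n) : ℕ) = evalW D.xTabs w x :=
  evalW_apply D.im (MonoidHom.id _) D.xTabs h.act w (fun l hl => by
    rw [h.nl_eq]
    exact Nat.le_of_ble_eq_true (List.all_eq_true.1 hw l hl)) x

theorem Valid.sameW_sound (h : D.Valid) {w v : List ℕ} (e : D.sameW w v = true) : wval D.im w = wval D.im v := by
  simp only [sameW, Bool.and_eq_true, List.all_eq_true, List.mem_range, beq_iff_eq] at e
  refine inv_injective (Equiv.ext fun x => Fin.ext ?_)
  rw [h.evalX e.1.1, h.evalX e.1.2, e.2 x.val x.isLt]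

theorem Valid.sameW_of_eq (h : D.Valid) {w v : List ℕ} (hw : D.inX w = true) (hv : D.inX v = true)
    (e : wval D.im w = wval D.im v) : D.sameW w v = true := by
  simp only [sameW, Bool.and_eq_true, List.all_eq_true, List.mem_range, beq_iff_eq]
  exact ⟨⟨hw, hv⟩, fun x hx => by rw [← h.evalX hw ⟨x, hx⟩, e, h.evalX hv ⟨x, hx⟩]⟩

theorem wval_app (v w : List ℕ) : wval D.im (v ++ w) = wval D.im v * wval D.im w := by simp [wval]

theorem wval_head (b : ℕ) (w : List ℕ) : wval D.im (b :: w) = D.im b * wval D.im w := by simp [wval]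

theorem wval_one (b : ℕ) : wval D.im [b] = D.im b := by simp [wval]

theorem wval_nil' : wval D.im [] = 1 := by simp [wval]

theorem wval_repl (g j : ℕ) : wval D.im (List.replicate j g) = D.im g ^ j := by simp [wval]

theorem inX_app {v w : List ℕ} (hv : D.inX v = true) (hw : D.inX w = true) : D.inX (v ++ w) = true := by
  simp only [inX, List.all_append, Bool.and_eq_true] at *
  exact ⟨hv, hw⟩

theorem inX_repl {g : ℕ} (hg : g < 8) (h : D.Valid) (j : ℕ) : D.inX (List.replicate j g) = true :=
  List.all_eq_true.2 fun l hl => by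
    rw [(List.mem_replicate.1 hl).2]
    exact Nat.ble_eq_true_of_le (by have := h.low_len.2; rw [nl]; omega)

theorem isLow_lt {w : List ℕ} (hw : isLow w = true) : ∀ l ∈ w, l < 4 := fun l hl =>
  Nat.le_of_ble_eq_true (List.all_eq_true.1 hw l hl)

theorem inX_low {w : List ℕ} (h : ∀ l ∈ w, l < 4) : D.inX w = true :=
  List.all_eq_true.2 fun l hl => Nat.ble_eq_true_of_le (by have := h l hl; rw [nl]; omega)

theorem low_mem {w : List ℕ} (h : ∀ l ∈ w, l < 4) : wval D.im w ∈ D.grp :=
  D.grp.list_prod_mem fun g hg => by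
    obtain ⟨l, hl, rfl⟩ := List.mem_map.1 hg
    exact Subgroup.subset_closure ⟨l, h l hl, rfl⟩

theorem Valid.tabled (h : D.Valid) : Tabled D.im (MonoidHom.id (Equiv.Perm (Fin D.n))) D.low where
  act l hl := by
    have e : D.low.getD l (0, 0) = D.xTabs.getD l (0, 0) := by
      rw [xTabs, List.getD_append _ _ _ _ hl]
    rw [e]
    exact h.act l (by rw [xTabs, List.length_append]; omega)
  sq l hl := by
    have hs := h.static
    simp only [staticOK, Bool.and_eq_true] at hs
    have hq : ((List.range 4).all fun l => D.sameW [l, l] []) = true := by tauto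
    have e := h.sameW_sound (List.all_eq_true.1 hq l (List.mem_range.2 (h.low_len.1 ▸ hl)))
    rwa [wval_head, wval_one, wval_nil'] at e

theorem Valid.gens_low (h : D.Valid) {S : SLev} (hS : S ∈ D.chainU ++ D.chainY) :
    ∀ g ∈ S.lev.gens, ∀ l ∈ g, l < 4 := fun g hg => by
  have hs := h.static
  simp only [staticOK, Bool.and_eq_true] at hs
  exact isLow_lt (List.all_eq_true.1 (List.all_eq_true.1 hs.2 S hS) g hg)

theorem Valid.card_ge (h : D.Valid) : D.ord ≤ Nat.card D.grp := by
  have hs := h.static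
  simp only [staticOK, Bool.and_eq_true, decide_eq_true_eq] at hs
  have h1 : chainOK D.low D.n 4 (D.chainU.map SLev.lev) = true := by tauto
  have h3 : chainSize (D.chainU.map SLev.lev) = D.ord := by tauto
  rw [← h3]
  refine chain_bound D.im (MonoidHom.id _) D.low h.tabled.act _ _ (by rw [h.low_len.1]; exact h1) inferInstance
    fun K hK w hw => ?_
  obtain ⟨S, hS, rfl⟩ := List.mem_map.1 hK
  exact low_mem (h.gens_low (List.mem_append_left _ hS) w hw)

/-- The letters of a sifted word. -/
theorem sift_low (tabs : List PP) : ∀ (c : List SLev) (ts w : List ℕ), CosetCert.sift tabs c ts = some w →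
    (∀ S ∈ c, ∀ g ∈ S.lev.gens, ∀ l ∈ g, l < 4) → ∀ l ∈ w, l < 4
  | [], _, w, h, _ => by
    simp only [CosetCert.sift, Option.some.injEq] at h
    subst h
    simp
  | _ :: _, [], w, h, _ => by simp [CosetCert.sift] at h
  | S :: r, t :: ts, w, h, hg => by
    simp only [CosetCert.sift] at h
    cases hf : S.idx.find? fun e => e.1 == t with
    | none => simp [hf] at h
    | some e =>
      simp only [hf] at h
      cases hs : CosetCert.sift tabs r (ts.map (evalW tabs (genWordL S.lev.gens e.2).reverse)) with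
      | none => simp [hs] at h
      | some v =>
        simp only [hs, Option.some.injEq] at h
        subst h
        intro l hl
        rcases List.mem_append.1 hl with hl | hl
        · exact sift_low tabs r _ v hs (fun M hM => hg M (List.mem_cons_of_mem S hM)) l hl
        · rw [genWordL, List.mem_flatMap] at hl
          obtain ⟨i, -, hi⟩ := hl
          by_cases h' : i < S.lev.gens.length
          · rw [List.getD_eq_getElem _ _ h'] at hi
            exact hg S List.mem_cons_self _ (List.getElem_mem h') l hi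
          · rw [List.getD_eq_default _ _ (not_lt.1 h')] at hi
            simp at hi

theorem Valid.found (h : D.Valid) (hcard : Nat.card D.grp = D.ord) {c : List SLev}
    (hc : c = D.chainU ∨ c = D.chainY) {z : Equiv.Perm (Fin D.n)} (hz : z ∈ D.grp) {ts : List ℕ}
    (hts : List.Forall₂ (fun S t => ∀ q : Fin D.n, q.val = S.lev.b → (z⁻¹ q).val = t) c ts) :
    ∃ w, CosetCert.sift D.low c ts = some w ∧ (∀ l ∈ w, l < 4) ∧ wval D.im w = z := by
  have hs := h.static
  simp only [staticOK, Bool.and_eq_true, decide_eq_true_eq] at hs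
  have hmem : ∀ S ∈ c, ∀ g ∈ S.lev.gens, ∀ l ∈ g, l < 4 := fun S hS => by
    rcases hc with rfl | rfl
    · exact h.gens_low (List.mem_append_left _ hS)
    · exact h.gens_low (List.mem_append_right _ hS)
  have hok : chainOK D.low D.n D.low.length (c.map SLev.lev) = true ∧ c.all (SLev.ok D.low) = true ∧
      chainSize (c.map SLev.lev) = D.ord := by
    rw [h.low_len.1]
    rcases hc with rfl | rfl <;> tauto
  obtain ⟨w, hw, e⟩ := sift_complete h.tabled _ D.grp inferInstance hok.1 hok.2.1
    (fun S hS w hw => low_mem (hmem S hS w hw)) (by rw [hcard, hok.2.2]) z hz ts hts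
  exact ⟨w, hw, sift_low D.low c ts w hw hmem, e⟩

theorem Valid.images_at (h : D.Valid) {c : List SLev} {g : ℕ} (hg : g < 8) {z : Equiv.Perm (Fin D.n)}
    (hcomm : z * D.im g = D.im g * z) (ps : List (ℕ × ℕ)) (hb : (c.map fun S => S.lev.b) = D.imagesAt g ps id)
    (r : ℕ → ℕ) (hps : ∀ q ∈ ps, ∃ hq : q.2 < D.n, (z⁻¹ ⟨q.2, hq⟩).val = r q.2) :
    List.Forall₂ (fun S t => ∀ q : Fin D.n, q.val = S.lev.b → (z⁻¹ q).val = t) c (D.imagesAt g ps r) := by
  rw [← List.forall₂_map_left_iff (f := fun S : SLev => S.lev.b)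
    (R := fun b t => ∀ q : Fin D.n, q.val = b → (z⁻¹ q).val = t), hb, imagesAt, imagesAt,
    List.forall₂_map_left_iff, List.forall₂_map_right_iff]
  refine List.forall₂_same.2 fun q hq x hx => ?_
  obtain ⟨hlt, hr⟩ := hps q hq
  have e : x = (wval D.im (List.replicate q.1 g))⁻¹ ⟨q.2, hlt⟩ := Fin.ext (by
    rw [hx, h.evalX (inX_repl hg h _)]
    rfl)
  rw [← hr, ← h.evalX (inX_repl hg h _), e, ← Equiv.Perm.mul_apply, ← Equiv.Perm.mul_apply, ← mul_inv_rev,
    ← mul_inv_rev, wval_repl, (Commute.pow_right hcomm q.1).eq]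

theorem Valid.mem_letter (h : D.Valid) {l : ℕ} (hl : (D.memWords.any fun m => m.1 == l) = true) :
    D.im l ∈ D.grp := by
  obtain ⟨m, hm, hml⟩ := List.any_eq_true.1 hl
  obtain rfl : m.1 = l := beq_iff_eq.1 hml
  have hs := h.local_
  simp only [localOK, Bool.and_eq_true] at hs
  have hw : (D.memWords.all fun m => D.sameW [m.1] m.2 && isLow m.2) = true := by tauto
  have := List.all_eq_true.1 hw m hm
  rw [Bool.and_eq_true] at this
  rw [← wval_one, h.sameW_sound this.1]
  exact low_mem (isLow_lt this.2)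

theorem Valid.four (h : D.Valid) {l : ℕ} (hl : l ∈ [4, 5, 6, 7]) : D.im l ∈ D.grp := by
  have hs := h.local_
  simp only [localOK, Bool.and_eq_true] at hs
  have hw : ([4, 5, 6, 7].all fun l => D.memWords.any fun m => m.1 == l) = true := by tauto
  exact h.mem_letter (List.all_eq_true.1 hw l hl)

theorem Valid.out_mem (h : D.Valid) {o : ℕ × ℕ} (ho : o ∈ D.outs) : D.im o.2 ∈ D.grp := by
  have hs := h.local_
  simp only [localOK, Bool.and_eq_true] at hs
  have hw : (D.outs.all fun o => D.memWords.any fun m => m.1 == o.2) = true := by tauto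
  exact h.mem_letter (List.all_eq_true.1 hw o ho)

/-- The element `u`. -/
def u (h : D.Valid) : D.grp := ⟨D.im 4, h.four (by simp)⟩
/-- The element `x`. -/
def x (h : D.Valid) : D.grp := ⟨D.im 5, h.four (by simp)⟩
/-- The element `y`. -/
def y (h : D.Valid) : D.grp := ⟨D.im 6, h.four (by simp)⟩
/-- The element `n`. -/
def nEl (h : D.Valid) : D.grp := ⟨D.im 7, h.four (by simp)⟩

theorem Valid.u_order (h : D.Valid) : orderOf (u h) = D.p := by
  have hs := h.local_
  simp only [localOK, Bool.and_eq_true, Bool.not_eq_true'] at hs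
  have h1 : D.sameW (List.replicate D.p 4) [] = true := by tauto
  have h2 : D.sameW [4] [] = false := by tauto
  haveI : Fact D.p.Prime := ⟨h.prime⟩
  refine orderOf_eq_prime (Subtype.ext ?_) fun e => ?_
  · have := h.sameW_sound h1
    rw [wval_repl, wval_nil'] at this
    rw [SubmonoidClass.coe_pow]
    exact this
  · have e' : D.im 4 = 1 := congrArg Subtype.val e
    have := h.sameW_of_eq (w := [4]) (v := []) (inX_repl (g := 4) (by norm_num) h 1) rfl
      (by rw [wval_one, e', wval_nil'])
    rw [h2] at this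
    exact Bool.noConfusion this

theorem Valid.u_mod (h : D.Valid) (i : ℕ) : (u h) ^ i = (u h) ^ (i % D.p) := by
  conv_lhs => rw [← pow_mod_orderOf, h.u_order]

theorem Valid.semi (h : D.Valid) {g : ℕ} {e : ℕ} (hg : D.sameW [4, g] (g :: List.replicate e 4) = true)
    {z : D.grp} (hz : (z : Equiv.Perm (Fin D.n)) = D.im g) : SemiconjBy z (u h ^ e) (u h) := Subtype.ext (by
  have := h.sameW_sound hg
  rw [wval_head, wval_one, wval_head, wval_repl] at this
  rw [Subgroup.coe_mul, Subgroup.coe_mul, SubmonoidClass.coe_pow, hz]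
  exact this.symm)

theorem Valid.cent_u (h : D.Valid) (hcard : Nat.card D.grp = D.ord) {c : D.grp} (hc : c * u h = u h * c) :
    ∃ i, c = u h ^ i := by
  have hcomm : (c : Equiv.Perm (Fin D.n)) * D.im 4 = D.im 4 * c := congrArg Subtype.val hc
  have hs := h.local_
  simp only [localOK, Bool.and_eq_true, decide_eq_true_eq, List.all_eq_true, beq_iff_eq] at hs
  have hs0 : D.s0 < D.n := by tauto
  have hpos : ∀ q ∈ D.posU, q.2 = D.s0 := by tauto
  have hb : (D.chainU.map fun S => S.lev.b) = D.imagesAt 4 D.posU id := by tauto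
  set r := ((c : Equiv.Perm (Fin D.n))⁻¹ ⟨D.s0, hs0⟩).val with hr
  obtain ⟨w, hw, hlow, e⟩ := h.found hcard (Or.inl rfl) c.2
    (h.images_at (by norm_num) hcomm D.posU hb (fun _ => r) fun q hq => by
      obtain ⟨q1, q2⟩ := q
      obtain rfl : q2 = D.s0 := hpos _ hq
      exact ⟨hs0, rfl⟩)
  have ht := h.testU r (Fin.isLt _)
  rw [Data.testU, hw] at ht
  simp only [Bool.or_eq_true, Bool.not_eq_true', List.any_eq_true, beq_iff_eq] at ht
  rcases ht with ⟨i, -, hi⟩ | ht
  · refine ⟨i, Subtype.ext ?_⟩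
    have hui : (((u h) ^ i : D.grp) : Equiv.Perm (Fin D.n)) = wval D.im (List.replicate i 4) := by
      rw [wval_repl, SubmonoidClass.coe_pow]
      rfl
    have hci : (((u h) ^ i : D.grp) : Equiv.Perm (Fin D.n)) * D.im 4 = D.im 4 * ((u h) ^ i : D.grp) :=
      congrArg Subtype.val (Commute.pow_self (u h) i).eq
    have hi' : ((((u h) ^ i : D.grp) : Equiv.Perm (Fin D.n))⁻¹ ⟨D.s0, hs0⟩).val = r := by
      rw [hui, h.evalX (inX_repl (by norm_num) h i)]
      exact hi
    obtain ⟨w', hw', -, e'⟩ := h.found hcard (Or.inl rfl) ((u h) ^ i).2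
      (h.images_at (by norm_num) hci D.posU hb (fun _ => r) fun q hq => by
        obtain ⟨q1, q2⟩ := q
        obtain rfl : q2 = D.s0 := hpos _ hq
        exact ⟨hs0, hi'⟩)
    rw [hw, Option.some.injEq] at hw'
    rw [← e, hw', e']
  · have hs2 : D.sameW (w ++ [4]) (4 :: w) = true :=
      h.sameW_of_eq (inX_app (inX_low hlow) (inX_repl (by norm_num) h 1))
        (inX_app (v := [4]) (inX_repl (by norm_num) h 1) (inX_low hlow))
        (by rw [wval_app, wval_one, wval_head, e, hcomm])
    rw [hs2] at ht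
    exact Bool.noConfusion ht

/-- The value of a relation. -/
def relVal {M : Type*} [Group M] (a v : M) (d : ℕ × List ℕ) : M := ((d.2.map fun i => a * v ^ i).prod) ^ d.1

theorem map_relVal {M N : Type*} [Group M] [Group N] (f : M →* N) (a v : M) (d : ℕ × List ℕ) :
    f (relVal a v d) = relVal (f a) (f v) d := by
  rw [relVal, relVal, map_pow, map_list_prod, List.map_map]
  congr 2
  exact List.map_congr_left fun i _ => by simp

theorem Valid.wval_relWord (h : D.Valid) (e : ℕ) (d : ℕ × List ℕ) (w : List ℕ) :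
    wval D.im (D.relWord e d w) = relVal (wval D.im w) ((u h : Equiv.Perm (Fin D.n)) ^ e) d := by
  have hu : ∀ i, (u h : Equiv.Perm (Fin D.n)) ^ (e * i % D.p) = ((u h : Equiv.Perm (Fin D.n)) ^ e) ^ i := fun i => by
    rw [← pow_mul, ← SubmonoidClass.coe_pow, ← SubmonoidClass.coe_pow, ← h.u_mod]
  have h1 : ∀ c : List ℕ, wval D.im (c.flatMap fun i => w ++ List.replicate (e * i % D.p) 4) =
      (c.map fun i => wval D.im w * ((u h : Equiv.Perm (Fin D.n)) ^ e) ^ i).prod := fun c => by
    induction c with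
    | nil => rfl
    | cons i c ih =>
      rw [List.flatMap_cons, wval_app, wval_app, wval_repl, ih, List.map_cons, List.prod_cons, ← hu i]
      rfl
  have h2 : ∀ (k : ℕ) (v : List ℕ), wval D.im (List.replicate k v).flatten = wval D.im v ^ k := fun k v => by
    induction k with
    | zero => rfl
    | succ k ih => rw [List.replicate_succ, List.flatten_cons, wval_app, ih, pow_succ']
  rw [relWord, h2, h1]
  rfl

theorem Valid.inX_relWord (h : D.Valid) (e : ℕ) (d : ℕ × List ℕ) {w : List ℕ} (hw : D.inX w = true) :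
    D.inX (D.relWord e d w) = true := by
  refine List.all_eq_true.2 fun l hl => ?_
  rw [relWord, List.mem_flatten] at hl
  obtain ⟨v, hv, hl⟩ := hl
  rw [(List.mem_replicate.1 hv).2, List.mem_flatMap] at hl
  obtain ⟨i, -, hl⟩ := hl
  exact List.all_eq_true.1 (inX_app hw (inX_repl (by norm_num) h _)) l hl

theorem Valid.rel_x (h : D.Valid) : ∀ d ∈ D.rels, relVal (x h) (u h) d = 1 := fun d hd => Subtype.ext (by
  have hs := h.local_
  simp only [localOK, Bool.and_eq_true] at hs
  have hw : (D.rels.all fun d => D.sameW (D.relWord 1 d [5]) []) = true := by tauto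
  have e := h.sameW_sound (List.all_eq_true.1 hw d hd)
  rw [h.wval_relWord, wval_one, wval_nil', pow_one] at e
  exact (map_relVal D.grp.subtype (x h) (u h) d).trans e)

theorem Valid.cent_y (h : D.Valid) (hcard : Nat.card D.grp = D.ord) {c : D.grp} (hc : c * y h = y h * c)
    {e : ℕ × ℕ} (he : e ∈ D.exps) (hrel : ∀ d ∈ D.rels, relVal (c * x h) (u h ^ e.1) d = 1) :
    ∃ o ∈ D.outs, o.1 = e.1 ∧ ((c * x h : D.grp) : Equiv.Perm (Fin D.n)) = D.im o.2 := by
  have hcomm : (c : Equiv.Perm (Fin D.n)) * D.im 6 = D.im 6 * c := congrArg Subtype.val hc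
  have hs := h.local_
  simp only [localOK, Bool.and_eq_true, decide_eq_true_eq] at hs
  have hs1 : D.s1 < D.n := by tauto
  have hs2 : D.s2 < D.n := by tauto
  have hposB : (D.posY.all fun q => q.2 == D.s1 || q.2 == D.s2) = true := by tauto
  have hpos : ∀ q ∈ D.posY, q.2 = D.s1 ∨ q.2 = D.s2 := fun q hq => by
    simpa using List.all_eq_true.1 hposB q hq
  have hbB : ((D.chainY.map fun S => S.lev.b) == D.imagesAt 6 D.posY id) = true := by tauto
  have hb : (D.chainY.map fun S => S.lev.b) = D.imagesAt 6 D.posY id := beq_iff_eq.1 hbB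
  set r₁ := ((c : Equiv.Perm (Fin D.n))⁻¹ ⟨D.s1, hs1⟩).val with hr1
  set r₂ := ((c : Equiv.Perm (Fin D.n))⁻¹ ⟨D.s2, hs2⟩).val with hr2
  have hsame : D.s1 = D.s2 → r₁ = r₂ := fun e => by
    rw [hr1, hr2]
    exact congrArg (fun q => ((c : Equiv.Perm (Fin D.n))⁻¹ q).val) (Fin.ext e)
  obtain ⟨w, hw, hlow, ew⟩ := h.found hcard (Or.inr rfl) c.2
    (h.images_at (by norm_num) hcomm D.posY hb (fun b => if b = D.s1 then r₁ else r₂) fun q hq => by
      obtain ⟨q1, q2⟩ := q
      have hq' := hpos _ hq
      dsimp only at hq' ⊢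
      by_cases h1 : q2 = D.s1
      · subst h1; exact ⟨hs1, by rw [if_pos rfl]⟩
      · obtain rfl := hq'.resolve_left h1
        exact ⟨hs2, by rw [if_neg h1]⟩)
  have ht := h.testY r₁ (Fin.isLt _) r₂ (Fin.isLt _) hsame
  rw [Data.testY, hw] at ht
  simp only [Bool.or_eq_true, Bool.not_eq_true', List.all_eq_true] at ht
  have hwx : D.inX w = true := inX_low hlow
  have hwx5 : D.inX (w ++ [5]) = true := inX_app hwx (inX_repl (by norm_num) h 1)
  have ew5 : wval D.im (w ++ [5]) = ((c * x h : D.grp) : Equiv.Perm (Fin D.n)) := by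
    rw [wval_app, wval_one, ew]
    rfl
  rcases ht with ht | ht
  · rcases ht e he with ht | ht
    · obtain ⟨o, ho, ht⟩ := List.any_eq_true.1 ht
      rw [Bool.and_eq_true, beq_iff_eq] at ht
      exact ⟨o, ho, ht.1, by rw [← ew5, h.sameW_sound ht.2, wval_one]⟩
    · obtain ⟨d, hd, ht⟩ := List.any_eq_true.1 ht
      rw [Bool.not_eq_true'] at ht
      rw [h.sameW_of_eq (h.inX_relWord e.1 d hwx5) rfl (by
        rw [h.wval_relWord, ew5, wval_nil', ← SubmonoidClass.coe_pow]
        exact (map_relVal D.grp.subtype (c * x h) (u h ^ e.1) d).symm.trans (congrArg Subtype.val (hrel d hd)))] at ht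
      exact Bool.noConfusion ht
  · have hs' : D.sameW (w ++ [6]) (6 :: w) = true :=
      h.sameW_of_eq (inX_app hwx (inX_repl (by norm_num) h 1))
        (inX_app (v := [6]) (inX_repl (by norm_num) h 1) hwx)
        (by rw [wval_app, wval_one, wval_head, ew, hcomm])
    rw [hs'] at ht
    exact Bool.noConfusion ht

theorem Valid.classes (h : D.Valid) (hcard : Nat.card D.grp = D.ord) {v : D.grp} (hv : orderOf v = D.p) :
    ∃ g, ∃ e ∈ D.exps, g * v * g⁻¹ = u h ^ e.1 := by
  haveI : Fact D.p.Prime := ⟨h.prime⟩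
  have hs := h.local_
  simp only [localOK, Bool.and_eq_true, decide_eq_true_eq] at hs
  have hd1 : D.p ∣ D.ord := by tauto
  have hd2 : ¬ D.p ^ 2 ∣ D.ord := by tauto
  have hord : D.ord ≠ 0 := fun e => hd2 (e ▸ dvd_zero _)
  have hf : D.ord.factorization D.p = 1 := by
    refine le_antisymm ?_ ((Nat.Prime.pow_dvd_iff_le_factorization h.prime hord).mp (by rwa [pow_one]))
    by_contra hne
    exact hd2 ((Nat.Prime.pow_dvd_iff_le_factorization h.prime hord).mpr (by omega))
  have hc : ∀ w : D.grp, orderOf w = D.p →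
      Nat.card (Subgroup.zpowers w) = D.p ^ (Nat.card D.grp).factorization D.p :=
    fun w hw => by rw [Nat.card_zpowers, hw, hcard, hf, pow_one]
  let P : Sylow D.p D.grp := Sylow.ofCard _ (hc v hv)
  let Q : Sylow D.p D.grp := Sylow.ofCard _ (hc (u h) h.u_order)
  obtain ⟨g, hg⟩ := MulAction.exists_smul_eq D.grp P Q
  have h1 : g * v * g⁻¹ ∈ (g • P : Sylow D.p D.grp).toSubgroup := by
    rw [Sylow.coe_subgroup_smul]
    exact Subgroup.mem_pointwise_smul_iff_inv_smul_mem.mpr (by
      have : v ∈ (P : Subgroup D.grp) := Subgroup.mem_zpowers v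
      simpa [MulAut.smul_def, mul_assoc] using this)
  rw [hg] at h1
  have h2 : g * v * g⁻¹ ∈ Subgroup.zpowers (u h) := h1
  obtain ⟨i, hi⟩ := Submonoid.mem_powers_iff _ _ |>.1
    ((isOfFinOrder_of_finite (u h)).mem_powers_iff_mem_zpowers.2 h2)
  have hi' : u h ^ (i % D.p) = g * v * g⁻¹ := by rw [← h.u_mod, hi]
  have hne : i % D.p ≠ 0 := fun e => by
    rw [e, pow_zero, eq_comm, conj_eq_one_iff] at hi'
    rw [hi', orderOf_one] at hv
    exact h.prime.one_lt.ne' hv.symm
  have hr : ((List.range' 1 (D.p - 1)).all fun r =>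
      D.exps.any fun e => (List.range D.p).any fun m => e.1 * D.k ^ m % D.p == r) = true := by tauto
  have hr' := List.all_eq_true.1 hr (i % D.p) (List.mem_range'_1.2 (by
    have := Nat.mod_lt i h.prime.pos
    omega))
  obtain ⟨e, he, hr''⟩ := List.any_eq_true.1 hr'
  obtain ⟨m, -, hm⟩ := List.any_eq_true.1 hr''
  have hsn : D.sameW [4, 7] (7 :: List.replicate D.k 4) = true := by tauto
  have hpow : ∀ j : ℕ, SemiconjBy (nEl h ^ j) (u h ^ D.k ^ j) (u h) := fun j => by
    induction j with
    | zero => simp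
    | succ j ih =>
      rw [pow_succ (nEl h), pow_succ D.k, mul_comm (D.k ^ j) D.k, pow_mul]
      exact ih.mul_left ((h.semi hsn (z := nEl h) rfl).pow_right (D.k ^ j))
  refine ⟨nEl h ^ m * g, e, he, ?_⟩
  have hn := (hpow m).pow_right e.1
  rw [← pow_mul, mul_comm (D.k ^ m), h.u_mod, beq_iff_eq.1 hm, hi', SemiconjBy] at hn
  calc nEl h ^ m * g * v * (nEl h ^ m * g)⁻¹ = nEl h ^ m * (g * v * g⁻¹) * (nEl h ^ m)⁻¹ := by group
    _ = u h ^ e.1 := by rw [hn, mul_inv_cancel_right]

theorem Valid.normal_form (h : D.Valid) (hcard : Nat.card D.grp = D.ord) (φ : MulAut D.grp) :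
    ∃ g : D.grp, ∃ o ∈ D.outs, (MulAut.conj g * φ) (u h) = u h ^ o.1 ∧
      ((MulAut.conj g * φ) (x h) : Equiv.Perm (Fin D.n)) = D.im o.2 := by
  have hs := h.local_
  simp only [localOK, Bool.and_eq_true] at hs
  have hsy : D.sameW [4, 6] (6 :: List.replicate D.a 4) = true := by tauto
  have hxy' : D.sameW [5, 6] (List.replicate D.b 6 ++ [5]) = true := by tauto
  have hyb : D.sameW (List.replicate (D.b * D.binv) 6) [6] = true := by tauto
  have hinv : (D.exps.all fun e => e.1 * e.2 % D.p == 1) = true := by tauto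
  have hadj : ((List.range D.p).all fun i =>
      (List.range D.p).any fun m => (D.a * (m + i) + (D.p - 1) * m) % D.p == 0) = true := by tauto
  obtain ⟨g1, e, he, hg1⟩ := h.classes hcard (v := φ (u h)) (by rw [MulEquiv.orderOf_eq φ, h.u_order])
  set ψ := MulAut.conj g1 * φ with hψ
  have hψu : ψ (u h) = u h ^ e.1 := by rw [hψ, MulAut.mul_apply, MulAut.conj_apply, hg1]
  have hy : SemiconjBy (y h) (u h ^ D.a) (u h) := h.semi hsy rfl
  have hy1 : SemiconjBy (ψ (y h)) ((u h ^ e.1) ^ D.a) (u h ^ e.1) := by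
    have := congrArg ψ hy.eq
    rw [map_mul, map_mul, map_pow, hψu] at this
    exact this
  have hy2 : SemiconjBy (y h)⁻¹ (u h ^ e.1) ((u h ^ e.1) ^ D.a) := by
    rw [← pow_mul, mul_comm e.1, pow_mul]
    exact hy.inv_symm_left.pow_right e.1
  have hcomm : (ψ (y h) * (y h)⁻¹) * u h = u h * (ψ (y h) * (y h)⁻¹) := by
    have h3 := (hy1.mul_left hy2).pow_right e.2
    rwa [← pow_mul, h.u_mod, beq_iff_eq.1 (List.all_eq_true.1 hinv e he), pow_one] at h3
  obtain ⟨i, hiy⟩ := h.cent_u hcard hcomm
  have hψy : ψ (y h) = u h ^ i * y h := by rw [← hiy, inv_mul_cancel_right]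
  obtain ⟨m, -, hm⟩ := List.any_eq_true.1 (List.all_eq_true.1 hadj (i % D.p)
    (List.mem_range.2 (Nat.mod_lt _ h.prime.pos)))
  rw [beq_iff_eq] at hm
  have hinvm : (u h ^ m)⁻¹ = u h ^ ((D.p - 1) * m) := by
    refine inv_eq_of_mul_eq_one_right ?_
    rw [← pow_add, h.u_mod, show m + (D.p - 1) * m = D.p * m by
      rw [Nat.sub_mul, one_mul]; have := Nat.le_mul_of_pos_left m h.prime.pos; omega,
      Nat.mul_mod_right, pow_zero]
  refine ⟨u h ^ m * g1, ?_⟩
  rw [map_mul, mul_assoc, ← hψ]
  set χ := MulAut.conj (u h ^ m) * ψ with hχ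
  have hχu : χ (u h) = u h ^ e.1 := by
    rw [hχ, MulAut.mul_apply, MulAut.conj_apply, hψu, (Commute.pow_pow_self (u h) m e.1).eq, mul_inv_cancel_right]
  have hχy : χ (y h) = y h := by
    rw [hχ, MulAut.mul_apply, MulAut.conj_apply, hψy, ← mul_assoc, ← pow_add, h.u_mod (m + i), Nat.add_mod,
      ← Nat.add_mod, ← h.u_mod (m + i), hinvm, ← (hy.pow_right (m + i)).eq, mul_assoc, ← pow_mul, ← pow_add,
      h.u_mod]
    have hz : (D.a * (m + i) + (D.p - 1) * m) % D.p = 0 := by
      rw [← hm, Nat.add_mod, Nat.mul_mod, Nat.add_mod m i, Nat.add_mod (D.a * (m + i % D.p)), Nat.mul_mod D.a (m + i % D.p),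
        Nat.add_mod m (i % D.p), Nat.mod_mod]
    rw [hz, pow_zero, mul_one]
  have hxy : x h * y h = y h ^ D.b * x h := Subtype.ext (by
    have := h.sameW_sound hxy'
    rwa [wval_head, wval_one, wval_app, wval_repl, wval_one] at this)
  have hyinv : (y h ^ D.b) ^ D.binv = y h := Subtype.ext (by
    have := h.sameW_sound hyb
    rw [wval_repl, wval_one] at this
    rw [← pow_mul, SubmonoidClass.coe_pow]
    exact this)
  have h1 : SemiconjBy (χ (x h)) (y h) (y h ^ D.b) := by
    have := congrArg χ hxy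
    rwa [map_mul, map_mul, map_pow, hχy] at this
  have h2 : SemiconjBy (x h)⁻¹ (y h ^ D.b) (y h) := (show SemiconjBy (x h) (y h) (y h ^ D.b) from hxy).inv_symm_left
  have hc : (χ (x h) * (x h)⁻¹) * y h = y h * (χ (x h) * (x h)⁻¹) := by
    have h3 := (h1.mul_left h2).pow_right D.binv
    rwa [hyinv] at h3
  obtain ⟨o, ho, hoe, hox⟩ := h.cent_y hcard hc he (fun d hd => by
    have := map_relVal χ.toMonoidHom (x h) (u h) d
    rw [h.rel_x d hd, map_one] at this
    rw [inv_mul_cancel_right, this]
    exact congrArg (fun t => relVal (χ (x h)) t d) hχu.symm)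
  rw [inv_mul_cancel_right] at hox
  exact ⟨o, ho, hoe ▸ hχu, hox⟩

theorem Valid.aut_ext (h : D.Valid) {φ ψ : MulAut D.grp} (hu : φ (u h) = ψ (u h)) (hx : φ (x h) = ψ (x h)) :
    φ = ψ := by
  let K : Subgroup (Equiv.Perm (Fin D.n)) := (MonoidHom.eqLocus φ.toMonoidHom ψ.toMonoidHom).map D.grp.subtype
  have hs := h.local_
  simp only [localOK, Bool.and_eq_true] at hs
  have hlet : ((List.range 4).all fun l => D.sameW (D.letWords.getD l []) [l] &&
      (D.letWords.getD l []).all fun b => b == 4 || b == 5) = true := by tauto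
  have hle : D.grp ≤ K := by
    refine (Subgroup.closure_le _).2 ?_
    rintro _ ⟨l, hl, rfl⟩
    have h' := List.all_eq_true.1 hlet l (List.mem_range.2 hl)
    simp only [Bool.and_eq_true, List.all_eq_true, Bool.or_eq_true, beq_iff_eq] at h'
    rw [← wval_one, ← h.sameW_sound h'.1]
    refine K.list_prod_mem fun g hg => ?_
    obtain ⟨b, hb, rfl⟩ := List.mem_map.1 hg
    rcases h'.2 b hb with rfl | rfl
    · exact ⟨u h, hu, rfl⟩
    · exact ⟨x h, hx, rfl⟩
  refine MulEquiv.ext fun z => ?_
  obtain ⟨w, hw, e⟩ := hle z.2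
  obtain rfl : w = z := Subtype.ext e
  exact hw

theorem Valid.same_class (h : D.Valid) {φ ψ : MulAut D.grp} {g g' : D.grp}
    (hu : (MulAut.conj g * φ) (u h) = (MulAut.conj g' * ψ) (u h))
    (hx : (MulAut.conj g * φ) (x h) = (MulAut.conj g' * ψ) (x h)) : (φ : Cfsg.Out D.grp) = (ψ : Cfsg.Out D.grp) := by
  have hcls : ∀ (χ : MulAut D.grp) (t : D.grp), (χ : Cfsg.Out D.grp) = ((MulAut.conj t * χ : MulAut D.grp) : Cfsg.Out D.grp) :=
    fun χ t => by
      refine QuotientGroup.eq.2 ?_
      rw [show χ⁻¹ * (MulAut.conj t * χ) = χ⁻¹ * MulAut.conj t * χ⁻¹⁻¹ by group]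
      exact (Cfsg.innNormal _).conj_mem _ ⟨t, rfl⟩ χ⁻¹
  rw [hcls φ g, hcls ψ g', h.aut_ext hu hx]

/-- The outer automorphism group is no larger than the list of possible images. -/
theorem Valid.out_le (h : D.Valid) (hcard : Nat.card D.grp = D.ord) :
    Nat.card (Cfsg.Out D.grp) ≤ D.outs.length ∧ Finite (Cfsg.Out D.grp) := by
  classical
  have key : ∀ q : Cfsg.Out D.grp, ∃ i : Fin D.outs.length, ∃ φ : MulAut D.grp, (φ : Cfsg.Out D.grp) = q ∧
      ∃ g : D.grp, (MulAut.conj g * φ) (u h) = u h ^ (D.outs[i.val]).1 ∧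
        ((MulAut.conj g * φ) (x h) : Equiv.Perm (Fin D.n)) = D.im (D.outs[i.val]).2 := fun q => by
    obtain ⟨φ, rfl⟩ := QuotientGroup.mk_surjective q
    obtain ⟨g, o, ho, h1, h2⟩ := h.normal_form hcard φ
    obtain ⟨i, hi, e⟩ := List.getElem_of_mem ho
    exact ⟨⟨i, hi⟩, φ, rfl, g, e.symm ▸ h1, e.symm ▸ h2⟩
  choose f rep hrep gg h1 h2 using key
  have hf : Function.Injective f := fun q q' e => by
    rw [← hrep q, ← hrep q']
    refine h.same_class (g := gg q) (g' := gg q') ?_ (Subtype.ext ?_)
    · rw [h1 q, h1 q', e]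
    · rw [h2 q, h2 q', e]
  exact ⟨le_of_le_of_eq (Nat.card_le_card_of_injective f hf) (Nat.card_fin _), Finite.of_injective f hf⟩

theorem Valid.out_one (h : D.Valid) (hcard : Nat.card D.grp = D.ord) (h1 : D.outs.length = 1) :
    Nat.card (Cfsg.Out D.grp) = 1 := by
  obtain ⟨hle, hfin⟩ := h.out_le hcard
  have : 0 < Nat.card (Cfsg.Out D.grp) := Nat.card_pos
  omega

/-- The check of an outer element: a letter, words for the conjugates of the involutions, a base, and points it
cannot send the base to. -/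
def outerOK (t : ℕ) (ws : List (List ℕ)) (stab : List (List ℕ)) (reach : List (List ℕ)) : Bool :=
  decide (t < D.nl) &&
  ((List.range 4).all fun l => D.sameW [t, l] (ws.getD l [] ++ [t]) && isLow (ws.getD l [])) &&
  (sift D.low D.chainU (D.chainU.map fun S => evalW D.xTabs [t] S.lev.b) == none) &&
  decide (0 < D.n) &&
  (stab.all fun w => isLow w && (evalW D.xTabs w 0 == 0)) &&
  ((List.range' 1 (D.n - 1)).all fun q => stab.any fun w => evalW D.xTabs w q != q) &&
  ((List.range D.n).all fun q => isLow (reach.getD q []) && (evalW D.xTabs (reach.getD q []) 0 == q))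

theorem Valid.out_two (h : D.Valid) (hcard : Nat.card D.grp = D.ord) (h2 : D.outs.length = 2) {t : ℕ}
    {ws stab reach : List (List ℕ)} (hok : D.outerOK t ws stab reach = true) :
    Nat.card (Cfsg.Out D.grp) = 2 := by
  simp only [outerOK, Bool.and_eq_true, decide_eq_true_eq, List.all_eq_true, List.mem_range, beq_iff_eq,
    List.any_eq_true] at hok
  obtain ⟨⟨⟨⟨⟨⟨ht, hws⟩, hnone⟩, hn⟩, hstab⟩, hmv⟩, hreach⟩ := hok
  have htX : D.inX [t] = true := by simp [inX, ht]
  set τ := D.im t with hτ
  have hnot : τ ∉ D.grp := fun hmem => by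
    obtain ⟨w, hw, -, -⟩ := h.found hcard (Or.inl rfl) hmem
      (ts := D.chainU.map fun S => evalW D.xTabs [t] S.lev.b) (by
      rw [List.forall₂_map_right_iff]
      refine List.forall₂_same.2 fun S _ q hq => ?_
      rw [hτ, ← wval_one (D := D), h.evalX htX, hq])
    rw [hnone] at hw
    simp at hw
  have hconj : ∀ g ∈ D.grp, τ * g * τ⁻¹ ∈ D.grp := by
    have hle : D.grp ≤ D.grp.comap (MulAut.conj τ).toMonoidHom := by
      refine (Subgroup.closure_le _).2 ?_
      rintro _ ⟨l, hl, rfl⟩
      obtain ⟨e, hlow⟩ := hws l hl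
      have e' := h.sameW_sound e
      rw [wval_head, wval_one, wval_app, wval_one] at e'
      show τ * D.im l * τ⁻¹ ∈ D.grp
      rw [hτ, e', mul_inv_cancel_right]
      exact low_mem (isLow_lt hlow)
    exact fun g hg => hle hg
  let f : D.grp →* D.grp := ((MulAut.conj τ).toMonoidHom.comp D.grp.subtype).codRestrict D.grp fun g => hconj g g.2
  have hf : Function.Bijective f := by
    have hinj : Function.Injective f := fun a b e => by
      have := congrArg Subtype.val e
      exact Subtype.ext ((MulAut.conj τ).injective this)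
    exact ⟨hinj, Finite.injective_iff_surjective.1 hinj⟩
  set ω : MulAut D.grp := MulEquiv.ofBijective f hf
  have hout : ω ∉ Cfsg.Inn D.grp := by
    rintro ⟨g, hg⟩
    have hc : ∀ a ∈ D.grp, ((g : Equiv.Perm (Fin D.n))⁻¹ * τ) * a = a * ((g : Equiv.Perm (Fin D.n))⁻¹ * τ) := by
      intro a ha
      have e : (g : Equiv.Perm (Fin D.n)) * a * (g : Equiv.Perm (Fin D.n))⁻¹ = τ * a * τ⁻¹ :=
        (congrArg Subtype.val (DFunLike.congr_fun hg (⟨a, ha⟩ : D.grp)) :)
      calc (g : Equiv.Perm (Fin D.n))⁻¹ * τ * a = (g : Equiv.Perm (Fin D.n))⁻¹ * (τ * a * τ⁻¹) * τ := by group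
        _ = (g : Equiv.Perm (Fin D.n))⁻¹ * ((g : Equiv.Perm (Fin D.n)) * a * (g : Equiv.Perm (Fin D.n))⁻¹) * τ := by
          rw [e]
        _ = a * ((g : Equiv.Perm (Fin D.n))⁻¹ * τ) := by group
    set c := (g : Equiv.Perm (Fin D.n))⁻¹ * τ with hcdef
    have key : ∀ w, (∀ l ∈ w, l < 4) → ∀ q : Fin D.n,
        evalW D.xTabs w (c⁻¹ q).val = (c⁻¹ ((wval D.im w)⁻¹ q)).val := fun w hw q => by
      rw [← h.evalX (inX_low hw) (c⁻¹ q), ← Equiv.Perm.mul_apply, ← Equiv.Perm.mul_apply, ← mul_inv_rev,
        ← mul_inv_rev, hc _ (low_mem hw)]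
    set z : Fin D.n := ⟨0, hn⟩
    have h0 : c⁻¹ z = z := by
      by_contra hne
      have hv : (c⁻¹ z).val ≠ 0 := fun e => hne (Fin.ext e)
      obtain ⟨w, hw, hmw⟩ := hmv _ (List.mem_range'_1.2 ⟨Nat.one_le_iff_ne_zero.2 hv,
        by have := (c⁻¹ z).isLt; omega⟩)
      obtain ⟨hlow, hfix⟩ := hstab w hw
      refine (bne_iff_ne.1 hmw) ?_
      have e : (wval D.im w)⁻¹ z = z := Fin.ext ((h.evalX (inX_low (isLow_lt hlow)) z).trans hfix)
      rw [key w (isLow_lt hlow), e]
    have hc1 : c = 1 := inv_eq_one.1 (Equiv.ext fun q => Fin.ext (by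
      obtain ⟨hlow, hq⟩ := hreach q.val q.isLt
      have eq : q = (wval D.im (reach.getD q.val []))⁻¹ z :=
        Fin.ext ((h.evalX (inX_low (isLow_lt hlow)) z).trans hq).symm
      rw [Equiv.Perm.one_apply]
      conv_lhs => rw [eq]
      rw [← key _ (isLow_lt hlow), h0]
      exact hq))
    exact hnot (inv_mul_eq_one.1 hc1 ▸ g.2)
  obtain ⟨hle, hfin⟩ := h.out_le hcard
  have hne : (1 : Cfsg.Out D.grp) ≠ (ω : Cfsg.Out D.grp) := fun e => hout ((QuotientGroup.eq_one_iff _).1 e.symm)
  haveI : Nontrivial (Cfsg.Out D.grp) := ⟨⟨_, _, hne⟩⟩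
  have := Finite.one_lt_card (α := Cfsg.Out D.grp)
  omega

end Data

/-- Isomorphic groups have isomorphic outer automorphism groups. -/
noncomputable def outCongr {G H : Type*} [Group G] [Group H] (e : G ≃* H) : Cfsg.Out G ≃* Cfsg.Out H :=
  QuotientGroup.congr _ _ (MulAut.congr e) (by
    apply le_antisymm
    · rintro _ ⟨_, ⟨g, rfl⟩, rfl⟩
      exact ⟨e g, MulEquiv.ext fun x => by simp [MulAut.congr]⟩
    · rintro _ ⟨h, rfl⟩
      exact ⟨_, ⟨e.symm h, rfl⟩, MulEquiv.ext fun x => by simp [MulAut.congr]⟩)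

end Cfsg.Lib.CosetCert.OutTwist
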